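import Cfsg.Agent.Goldschmidt.Rlin.Field
import Mathlib.GroupTheory.QuotientGroup.Basic
import Mathlib.GroupTheory.Index

/-!
From the hypotheses of RLIN: the rotation, its complement, and cyclicity on the quotient by `Z`.
-/

set_option autoImplicit false
set_option linter.unusedSectionVars false
set_option linter.style.haveILetI false

namespace Cfsg.Lib.Goldschmidt.Rlin

open Subgroup

variable {V : Type*} [CommGroup V] [Finite V]

/-- The hypotheses of the interface. -/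
structure Raw (R E : Subgroup (MulAut V)) (Z : Subgroup V) : Prop where
  sq : ∀ v : V, v * v = 1
  irr : ∀ U : Subgroup V, (∀ g ∈ R, ∀ v ∈ U, g v ∈ U) → U = ⊥ ∨ U = ⊤
  Zne : Z ≠ ⊥
  idx : 4 ≤ Z.index
  le : E ≤ R
  fixZ : ∀ e ∈ E, ∀ z ∈ Z, e z = z
  tiR : ∀ g ∈ R, (∀ z ∈ Z, g z ∈ Z) ∨ ∀ z ∈ Z, g z ∈ Z → z = 1
  normE : ∀ g ∈ R, (∀ z ∈ Z, g z ∈ Z) → ∀ e ∈ E, g * e * g⁻¹ ∈ E
  trans : ∀ v w : V, v ∉ Z → w ∉ Z → ∃ e ∈ E, (e v)⁻¹ * w ∈ Z
  commE : ∀ e ∈ E, ∀ f ∈ E, ∀ v, (e (f v))⁻¹ * f (e v) ∈ Z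
  semi : ∀ e ∈ E, ∀ v, v ∉ Z → (e v)⁻¹ * v ∈ Z → ∀ w, (e w)⁻¹ * w ∈ Z
  shear : ∀ e ∈ E, (∀ w, (e w)⁻¹ * w ∈ Z) → (∃ v, v ∉ Z ∧ e v = v) ∧ (Z.index = 4 → e = 1)

/-- the stabiliser of `Z` in the full automorphism group -/
def stabZ (Z : Subgroup V) : Subgroup (MulAut V) where
  carrier := {g | ∀ z, g z ∈ Z ↔ z ∈ Z}
  one_mem' := fun _ => Iff.rfl
  mul_mem' := fun {a b} ha hb z => (ha (b z)).trans (hb z)
  inv_mem' := fun {a} ha z => by rw [← ha (a⁻¹ z), MulAut.apply_inv_self]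

theorem mem_stabZ {Z : Subgroup V} {g : MulAut V} (h : ∀ z ∈ Z, g z ∈ Z) : g ∈ stabZ Z := fun z => by
  refine ⟨fun hz => ?_, h z⟩
  have hinj : Function.Injective (fun x : Z => (⟨g x.1, h x.1 x.2⟩ : Z)) := fun a b e =>
    Subtype.ext (g.injective (congrArg Subtype.val e))
  obtain ⟨w, hw⟩ := Finite.injective_iff_surjective.1 hinj ⟨g z, hz⟩
  rw [← g.injective (congrArg Subtype.val hw)]
  exact w.2

/-- the action on the quotient -/
def quot (Z : Subgroup V) : stabZ Z →* AddMonoid.End (Additive (V ⧸ Z)) where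
  toFun g := MonoidHom.toAdditive (QuotientGroup.map Z Z (g : MulAut V).toMonoidHom fun z hz => (g.2 z).2 hz)
  map_one' := AddMonoidHom.ext fun x => by
    obtain ⟨v, hv⟩ := QuotientGroup.mk_surjective x.toMul
    rw [show x = Additive.ofMul (v : V ⧸ Z) from congrArg Additive.ofMul hv.symm]
    rfl
  map_mul' a b := AddMonoidHom.ext fun x => by
    obtain ⟨v, hv⟩ := QuotientGroup.mk_surjective x.toMul
    rw [show x = Additive.ofMul (v : V ⧸ Z) from congrArg Additive.ofMul hv.symm]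
    rfl

variable {Z : Subgroup V}

/-- the class of a vector -/
def cls (Z : Subgroup V) (v : V) : Additive (V ⧸ Z) := Additive.ofMul (v : V ⧸ Z)

theorem quot_cls (g : stabZ Z) (v : V) : quot Z g (cls Z v) = cls Z ((g : MulAut V) v) := rfl

theorem cls_eq {v w : V} : cls Z v = cls Z w ↔ v⁻¹ * w ∈ Z := Additive.ofMul.injective.eq_iff.trans QuotientGroup.eq

theorem cls_surj (x : Additive (V ⧸ Z)) : ∃ v, cls Z v = x :=
  (QuotientGroup.mk_surjective x.toMul).elim fun v hv => ⟨v, congrArg Additive.ofMul hv⟩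

theorem cls_eq_zero {v : V} : cls Z v = 0 ↔ v ∈ Z := (QuotientGroup.eq_one_iff v)

theorem quot_eq_one {g : stabZ Z} (h : ∀ w, ((g : MulAut V) w)⁻¹ * w ∈ Z) : quot Z g = 1 := by
  refine AddMonoidHom.ext fun x => ?_
  obtain ⟨w, rfl⟩ := cls_surj x
  exact (quot_cls g w).trans (cls_eq.2 (h w))

namespace Raw

variable {R E : Subgroup (MulAut V)} (h : Raw R E Z)
include h

theorem inv_self (v : V) : v⁻¹ = v := inv_eq_of_mul_eq_one_right (h.sq v)

theorem E_le : E ≤ stabZ Z := fun e he => mem_stabZ fun z hz => by rw [h.fixZ e he z hz]; exact hz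

/-- the image of `E` -/
def img (_ : Raw R E Z) : Set (AddMonoid.End (Additive (V ⧸ Z))) := {c | ∃ g : stabZ Z, (g : MulAut V) ∈ E ∧ quot Z g = c}

theorem img_comm : ∀ c ∈ h.img, ∀ d ∈ h.img, c * d = d * c := by
  rintro _ ⟨e, he, rfl⟩ _ ⟨f, hf, rfl⟩
  refine AddMonoidHom.ext fun x => ?_
  obtain ⟨v, rfl⟩ := cls_surj x
  show quot Z e (quot Z f (cls Z v)) = quot Z f (quot Z e (cls Z v))
  rw [quot_cls, quot_cls, quot_cls, quot_cls, cls_eq]
  exact h.commE e he f hf v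

theorem img_trans : ∀ x y : Additive (V ⧸ Z), x ≠ 0 → y ≠ 0 → ∃ c ∈ h.img, c x = y := by
  intro x y hx hy
  obtain ⟨v, rfl⟩ := cls_surj x
  obtain ⟨w, rfl⟩ := cls_surj y
  obtain ⟨e, he, hev⟩ := h.trans v w (fun e => hx (cls_eq_zero.2 e)) (fun e => hy (cls_eq_zero.2 e))
  exact ⟨_, ⟨⟨e, h.E_le he⟩, he, rfl⟩, by rw [quot_cls, cls_eq]; exact hev⟩

theorem exists_ne : ∃ x : Additive (V ⧸ Z), x ≠ 0 := by
  haveI : Nontrivial (V ⧸ Z) := Finite.one_lt_card_iff_nontrivial.1 (by have := h.idx; rw [← index_eq_card]; omega)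
  obtain ⟨a, ha⟩ := _root_.exists_ne (1 : V ⧸ Z)
  exact ⟨Additive.ofMul a, ha⟩

theorem two (x : Additive (V ⧸ Z)) : x + x = 0 := by
  obtain ⟨v, rfl⟩ := cls_surj x
  exact congrArg (cls Z) (h.sq v)

/-- A 2-subgroup of the stabiliser is cyclic on the quotient. -/
theorem quot_cyclic (Q : Subgroup (MulAut V)) (hQR : Q ≤ R) (hQ : IsPGroup 2 Q) (hs : Q ≤ stabZ Z) :
    ∃ q ∈ Q, ∀ g ∈ Q, ∃ i : ℕ, ∀ v, (g v)⁻¹ * (q ^ i) v ∈ Z := by
  haveI : Fact (Nat.Prime 2) := ⟨Nat.prime_two⟩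
  let ρ : Q →* AddMonoid.End (Additive (V ⧸ Z)) := (quot Z).comp (Subgroup.inclusion hs)
  letI : MulAction Q (Additive (V ⧸ Z)) :=
    { smul := fun q x => ρ q x
      one_smul := fun x => by show ρ 1 x = x; rw [map_one]; rfl
      mul_smul := fun a b x => by show ρ (a * b) x = ρ a (ρ b x); rw [map_mul]; rfl }
  obtain ⟨k, hk⟩ := IsPGroup.iff_card.1 (show IsPGroup 2 (V ⧸ Z) from fun x => ⟨1, by
    obtain ⟨v, rfl⟩ := QuotientGroup.mk_surjective x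
    rw [← QuotientGroup.mk_pow, pow_one, pow_two, h.sq]; rfl⟩)
  have h2 : 2 ∣ Nat.card (Additive (V ⧸ Z)) := by
    rw [Nat.card_congr Additive.toMul, hk]
    refine dvd_pow_self 2 fun e => ?_
    have := h.idx
    rw [index_eq_card, hk, e] at this
    omega
  obtain ⟨x₀, hx₀, hne⟩ := hQ.exists_fixed_point_of_prime_dvd_card_of_fixed_point _ h2
    (a := (0 : Additive (V ⧸ Z))) (fun q => map_zero (ρ q))
  obtain ⟨q₀, hq₀⟩ := stab_cyclic (Ne.symm hne) h.img_comm h.img_trans ρ h.two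
    (by
      rintro q _ ⟨e, he, rfl⟩
      refine ⟨_, ⟨⟨(q : MulAut V) * (e : MulAut V) * (q : MulAut V)⁻¹,
        h.E_le (h.normE _ (hQR q.2) (fun z hz => (hs q.2 z).2 hz) _ he)⟩,
        h.normE _ (hQR q.2) (fun z hz => (hs q.2 z).2 hz) _ he, rfl⟩, ?_⟩
      show quot Z (Subgroup.inclusion hs q) * quot Z e = _ * quot Z (Subgroup.inclusion hs q)
      rw [← map_mul, ← map_mul]
      congr 1
      exact Subtype.ext (inv_mul_cancel_right _ _).symm)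
    (fun q => hx₀ q)
  refine ⟨q₀, q₀.2, fun g hg => ?_⟩
  obtain ⟨i, hi⟩ := hq₀ ⟨g, hg⟩
  refine ⟨i, fun v => cls_eq.1 ?_⟩
  exact congrArg (fun f : AddMonoid.End (Additive (V ⧸ Z)) => f (cls Z v)) hi

/-- The rotation. -/
theorem exists_rot : ∃ (n : ℕ) (r : MulAut V), 2 ≤ n ∧ Z.index = 2 ^ n ∧ r ∈ E ∧ orderOf r = 2 ^ n - 1 ∧
    (∀ j : ℕ, r ^ j ≠ 1 → ∀ v, (r ^ j) v = v ↔ v ∈ Z) ∧
    ∀ e ∈ E, ∃ j : ℕ, ∀ w, (((r ^ j)⁻¹ * e) w)⁻¹ * w ∈ Z := by
  classical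
  haveI : Fact (Nat.Prime 2) := ⟨Nat.prime_two⟩
  obtain ⟨n, hn⟩ := IsPGroup.iff_card.1 (show IsPGroup 2 (V ⧸ Z) from fun x => ⟨1, by
    obtain ⟨v, rfl⟩ := QuotientGroup.mk_surjective x
    rw [← QuotientGroup.mk_pow, pow_one, pow_two, h.sq]; rfl⟩)
  have hn2 : 2 ≤ n := by
    by_contra hlt
    have := h.idx
    rw [index_eq_card, hn] at this
    interval_cases n <;> omega
  obtain ⟨x₀, hx₀⟩ := h.exists_ne
  obtain ⟨c, ⟨e₀, he₀, rfl⟩, hgen⟩ := exists_gen hx₀ h.img_comm h.img_trans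
  have hne0 : ∀ g : stabZ Z, quot Z g ≠ 0 := fun g e => by
    have h1 := congrArg (fun f : AddMonoid.End (Additive (V ⧸ Z)) => f x₀)
      (show quot Z g⁻¹ * quot Z g = 1 by rw [← map_mul, inv_mul_cancel, map_one])
    rw [e, mul_zero] at h1
    exact hx₀ h1.symm
  have htriv : ∀ g : stabZ Z, quot Z g = 1 → ∀ w, ((g : MulAut V) w)⁻¹ * w ∈ Z := fun g e w =>
    cls_eq.1 (congrArg (fun f : AddMonoid.End (Additive (V ⧸ Z)) => f (cls Z w)) e)
  set o := orderOf (quot Z e₀) with ho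
  have hopos : 0 < o := by
    rw [ho]
    exact orderOf_pos_iff.2 ((quot Z).isOfFinOrder (isOfFinOrder_of_finite e₀))
  have hoM : o = 2 ^ n - 1 := by
    let f : Fin o → {x : Additive (V ⧸ Z) // x ≠ 0} := fun j => ⟨quot Z (e₀ ^ (j : ℕ)) x₀, fun e => hx₀ (by
      have h1 := congrArg (fun f : AddMonoid.End (Additive (V ⧸ Z)) => f x₀)
        (show quot Z (e₀ ^ (j : ℕ))⁻¹ * quot Z (e₀ ^ (j : ℕ)) = 1 by rw [← map_mul, inv_mul_cancel, map_one])
      change quot Z (e₀ ^ (j : ℕ))⁻¹ (quot Z (e₀ ^ (j : ℕ)) x₀) = x₀ at h1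
      rw [e, map_zero] at h1
      exact h1.symm)⟩
    have hinj : Function.Injective f := by
      intro a b e
      wlog hab : (a : ℕ) ≤ b generalizing a b
      · exact (this e.symm (le_of_not_ge hab)).symm
      have e' : quot Z (e₀ ^ (a : ℕ)) x₀ = quot Z (e₀ ^ (b : ℕ)) x₀ := congrArg Subtype.val e
      obtain ⟨v, hv⟩ := cls_surj (quot Z (e₀ ^ (a : ℕ)) x₀)
      have hv' : v ∉ Z := fun hm => (f a).2 (hv.symm.trans (cls_eq_zero.2 hm))
      have h2 := h.semi _ (pow_mem he₀ ((b : ℕ) - a)) v hv' (by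
        rw [← cls_eq, ← SubmonoidClass.coe_pow, ← quot_cls, hv]
        conv_rhs => rw [e']
        rw [← Nat.sub_add_cancel hab, pow_add, map_mul, Nat.add_sub_cancel]
        rfl)
      have h3 : quot Z e₀ ^ ((b : ℕ) - a) = 1 := by
        rw [← map_pow]
        exact quot_eq_one fun w => by rw [SubmonoidClass.coe_pow]; exact h2 w
      have h4 := orderOf_dvd_of_pow_eq_one h3
      rw [← ho] at h4
      rcases Nat.eq_zero_or_pos ((b : ℕ) - a) with h5 | h5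
      · exact Fin.ext (by omega)
      · have := Nat.le_of_dvd h5 h4; omega
    have hsurj : Function.Surjective f := by
      rintro ⟨y, hy⟩
      obtain ⟨c, ⟨g, hg, rfl⟩, hc⟩ := h.img_trans x₀ y hx₀ hy
      obtain ⟨i, hi⟩ := hgen _ ⟨g, hg, rfl⟩ (hne0 g)
      refine ⟨⟨i % o, Nat.mod_lt _ hopos⟩, Subtype.ext ?_⟩
      show quot Z (e₀ ^ (i % o)) x₀ = y
      rw [map_pow, ho, pow_mod_orderOf, hi, hc]
    have hcard := Nat.card_eq_of_bijective f ⟨hinj, hsurj⟩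
    haveI := Fintype.ofFinite (Additive (V ⧸ Z))
    rw [Nat.card_fin, Nat.card_eq_fintype_card, Fintype.card_subtype_compl, Fintype.card_subtype_eq,
      ← Nat.card_eq_fintype_card, Nat.card_congr Additive.toMul, hn] at hcard
    exact hcard
  set r : MulAut V := (e₀ : MulAut V) ^ 2 with hr
  have hrE : r ∈ E := pow_mem he₀ 2
  obtain ⟨d, hd⟩ : ∃ d, o = 2 * d + 1 := by
    refine ⟨2 ^ (n - 1) - 1, ?_⟩
    obtain ⟨m, rfl⟩ : ∃ m, n = m + 1 := ⟨n - 1, by omega⟩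
    have := Nat.one_le_two_pow (n := m)
    rw [hoM, pow_succ, Nat.add_sub_cancel]; omega
  have hq2 : ∀ j : ℕ, ((e₀ ^ (2 * j) : stabZ Z) : MulAut V) = r ^ j := fun j => by
    rw [SubmonoidClass.coe_pow, hr, pow_mul]
  have hro : r ^ o = 1 := by
    have h1 := htriv (e₀ ^ o) (by rw [map_pow, ho, pow_orderOf_eq_one])
    rw [SubmonoidClass.coe_pow] at h1
    refine MulEquiv.ext fun v => ?_
    rw [hr, ← pow_mul, mul_comm 2, pow_mul, pow_two]
    show ((e₀ : MulAut V) ^ o) (((e₀ : MulAut V) ^ o) v) = v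
    have h2 := h.fixZ _ (pow_mem he₀ o) _ (h1 v)
    rw [map_mul, map_inv, inv_mul_eq_iff_eq_mul] at h2
    generalize ((e₀ : MulAut V) ^ o) (((e₀ : MulAut V) ^ o) v) = u at h2 ⊢
    generalize ((e₀ : MulAut V) ^ o) v = w at h2 ⊢
    rw [h.inv_self w] at h2
    calc u = u * (w * v) * (w * v) := by rw [mul_assoc, h.sq, mul_one]
      _ = w * (w * v) := by rw [← h2]
      _ = v := by rw [← mul_assoc, h.sq, one_mul]
  have hdiv : ∀ j : ℕ, r ^ j = 1 → o ∣ j := fun j hj => by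
    have h1 : quot Z e₀ ^ (2 * j) = 1 := by
      rw [← map_pow, show e₀ ^ (2 * j) = 1 from Subtype.ext ((hq2 j).trans hj), map_one]
    refine (Nat.Coprime.dvd_of_dvd_mul_left ?_ (ho ▸ orderOf_dvd_of_pow_eq_one h1))
    exact Nat.coprime_two_right.2 ⟨d, hd⟩
  refine ⟨n, r, hn2, (index_eq_card Z).trans hn, hrE, ?_, fun j hj v => ?_, fun e he => ?_⟩
  · rw [← hoM]
    exact Nat.dvd_antisymm (orderOf_dvd_of_pow_eq_one hro) (hdiv _ (pow_orderOf_eq_one r))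
  · refine ⟨fun hv => ?_, fun hv => h.fixZ _ (pow_mem hrE j) v hv⟩
    by_contra hvZ
    refine hj ?_
    have h1 := h.semi _ (pow_mem hrE j) v hvZ (by rw [hv, inv_mul_cancel]; exact one_mem Z)
    have h2 : quot Z e₀ ^ (2 * j) = 1 := by
      rw [← map_pow]
      exact quot_eq_one fun w => by rw [hq2]; exact h1 w
    have h3 : o ∣ 2 * j := ho ▸ orderOf_dvd_of_pow_eq_one h2
    obtain ⟨q, rfl⟩ := Nat.Coprime.dvd_of_dvd_mul_left (Nat.coprime_two_right.2 ⟨d, hd⟩) h3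
    rw [pow_mul, hro, one_pow]
  · obtain ⟨i, hi⟩ := hgen _ ⟨⟨e, h.E_le he⟩, he, rfl⟩ (hne0 _)
    refine ⟨i * (d + 1), fun w => ?_⟩
    have h1 : quot Z ((e₀ ^ (2 * (i * (d + 1))))⁻¹ * ⟨e, h.E_le he⟩) = 1 := by
      have h2 : quot Z (e₀ ^ (2 * (i * (d + 1)))) = quot Z ⟨e, h.E_le he⟩ := by
        rw [map_pow, show 2 * (i * (d + 1)) = i + o * i by rw [hd]; ring, pow_add, pow_mul, ho,
          pow_orderOf_eq_one, one_pow, mul_one, hi]
      rw [map_mul, ← h2, ← map_mul, inv_mul_cancel, map_one]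
    have h3 := htriv _ h1 w
    rwa [Subgroup.coe_mul, Subgroup.coe_inv, hq2] at h3

end Raw

end Cfsg.Lib.Goldschmidt.Rlin
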