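import Cfsg.Agent.Goldschmidt.Rlin.Main
import Cfsg.Agent.Goldschmidt.Rlin.Quot
import Cfsg.Agent.Goldschmidt.Setting

/-!
RLIN in the form of the interface: shears do not occur, and then the linear lemma applies.
-/

set_option autoImplicit false
set_option linter.unusedSectionVars false
set_option linter.style.haveILetI false

namespace Cfsg.Lib.Goldschmidt.Rlin

open Subgroup

namespace Raw

variable {V : Type*} [CommGroup V] [Finite V] {R E : Subgroup (MulAut V)} {Z : Subgroup V} (h : Raw R E Z)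
include h

/-- `v ↦ r v / v` -/
def diff (_ : Raw R E Z) (r : MulAut V) : V →* V where
  toFun v := r v * v⁻¹
  map_one' := by rw [map_one, inv_one, mul_one]
  map_mul' a b := by rw [map_mul, mul_inv, mul_mul_mul_comm]

theorem diff_apply (r : MulAut V) (v : V) : h.diff r v = r v * v⁻¹ := rfl

theorem mul_mem_iff {v w : V} : v⁻¹ * w ∈ Z ↔ v * w⁻¹ ∈ Z := by rw [h.inv_self, h.inv_self]

theorem pre {n : ℕ} {r : MulAut V} (hn : 2 ≤ n) (hidx : Z.index = 2 ^ n) (hrE : r ∈ E)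
    (hr : orderOf r = 2 ^ n - 1) (hfix : ∀ j : ℕ, r ^ j ≠ 1 → ∀ v, (r ^ j) v = v ↔ v ∈ Z) :
    Pre R.subtype (⟨r, h.le hrE⟩ : R) (h.diff r).range Z n := by
  have hr1 : r ^ 1 ≠ 1 := by
    refine pow_ne_one_of_lt_orderOf one_ne_zero ?_
    rw [hr]
    have := Nat.pow_le_pow_right two_pos hn
    omega
  have hker : (h.diff r).ker = Z := by
    ext v
    rw [MonoidHom.mem_ker, diff_apply, mul_inv_eq_one]
    have := hfix 1 hr1 v
    rwa [pow_one] at this
  have hrH : ∀ x ∈ (h.diff r).range, r x ∈ (h.diff r).range := by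
    rintro _ ⟨v, rfl⟩
    exact ⟨r v, by rw [diff_apply, diff_apply, map_mul, map_inv]⟩
  have hdisj : ∀ x, x ∈ (h.diff r).range → x ∈ Z → x = 1 := by
    rintro _ ⟨v, rfl⟩ hx
    rw [diff_apply, ← h.mul_mem_iff] at hx
    have hvZ : v ∈ Z := by
      by_contra hv
      refine hr1 (MulEquiv.ext fun w => ?_)
      rw [pow_one, MulAut.one_apply]
      have h1 := h.semi r hrE v hv hx
      obtain ⟨⟨u, hu, huv⟩, -⟩ := h.shear r hrE h1
      exact absurd ((hfix 1 hr1 u).1 (by rw [pow_one]; exact huv)) hu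
    rw [diff_apply, h.fixZ r hrE v hvZ, mul_inv_cancel]
  refine
    { sq := h.sq
      inj := R.subtype_injective
      irr := fun U hU => h.irr U fun g hg v hv => hU ⟨g, hg⟩ v hv
      hn := hn
      cardH := by rw [← index_ker, hker, hidx]
      Zne := h.Zne
      disj := hdisj
      sup := ?_
      hr := by rw [Subgroup.orderOf_mk, hr]
      fix := fun j hj v => hfix j (fun e => hj (Subtype.ext e)) v
      rH := hrH
      ti := fun g b hb hb1 hgb => (h.tiR g g.2).resolve_right fun e => hb1 (e b hb hgb) }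
  have hkerm : ∀ w, h.diff r w = 1 → w ∈ Z := fun w e => hker.le (MonoidHom.mem_ker.2 e)
  intro v
  let f : (h.diff r).range → (h.diff r).range := fun x => ⟨h.diff r x.1, ⟨x.1, rfl⟩⟩
  have hf : Function.Injective f := fun x y e => Subtype.ext <| mul_inv_eq_one.1 <|
    hdisj _ (mul_mem x.2 (inv_mem y.2)) <| hkerm _ (by
      rw [map_mul, map_inv, show h.diff r x.1 = h.diff r y.1 from congrArg Subtype.val e, mul_inv_cancel])
  obtain ⟨x, hx⟩ := Finite.injective_iff_surjective.1 hf ⟨h.diff r v, v, rfl⟩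
  refine ⟨x, x.2, (x : V)⁻¹ * v, hkerm _ ?_, mul_inv_cancel_left _ _⟩
  rw [map_mul, map_inv, show h.diff r x.1 = h.diff r v from congrArg Subtype.val hx, inv_mul_cancel]

/-- no shears -/
theorem shear_trivial {n : ℕ} {r : MulAut V} (hn : 2 ≤ n) (hidx : Z.index = 2 ^ n) (hrE : r ∈ E)
    (hr : orderOf r = 2 ^ n - 1) (hfix : ∀ j : ℕ, r ^ j ≠ 1 → ∀ v, (r ^ j) v = v ↔ v ∈ Z)
    {t : MulAut V} (ht : t ∈ E) (hsh : ∀ w, (t w)⁻¹ * w ∈ Z) : t = 1 := by
  classical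
  by_contra ht1
  have d := h.pre hn hidx hrE hr hfix
  obtain ⟨⟨v₀, hv₀, htv₀⟩, h4⟩ := h.shear t ht hsh
  have hdiffZ : ∀ {u : MulAut V}, (∀ w, (u w)⁻¹ * w ∈ Z) → ∀ w, u w * w⁻¹ ∈ Z := fun hu w => h.mul_mem_iff.1 (hu w)
  have htt : ∀ {u : MulAut V}, u ∈ E → (∀ w, (u w)⁻¹ * w ∈ Z) → u * u = 1 := by
    intro u hu hu' 
    refine MulEquiv.ext fun w => ?_
    show u (u w) = w
    have h1 := h.fixZ u hu _ (hdiffZ hu' w)
    rw [map_mul, map_inv, mul_inv_eq_iff_eq_mul] at h1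
    calc u (u w) = u w * w⁻¹ * u w := h1
      _ = w⁻¹ * (u w * u w) := by rw [mul_comm (u w) w⁻¹, mul_assoc]
      _ = w := by rw [h.sq, mul_one, h.inv_self]
  set tR : R := ⟨t, h.le ht⟩ with htR
  rcases d.two_or_covers with ⟨⟨g₀, hg₀⟩, hall⟩ | ⟨hcov, -⟩
  · refine ht1 (MulEquiv.ext fun w => ?_)
    obtain ⟨x, hx, z, hz, rfl⟩ := d.sup w
    rw [MulAut.one_apply, map_mul, h.fixZ t ht z hz]
    have h1 : im R.subtype (tR * g₀) Z = (h.diff r).range := by
      refine (hall _).resolve_left fun e => ?_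
      have htZ : im R.subtype tR Z = Z := im_eq_of_le fun z hz => by
        show t z ∈ Z
        rw [h.fixZ t ht z hz]; exact hz
      rw [im_mul] at e
      have e' := Subgroup.map_injective (R.subtype tR).injective (e.trans htZ.symm)
      obtain ⟨a, ha, ha1⟩ := d.exists_H
      exact ha1 (d.disj a ha (hg₀.symm.trans e' ▸ ha))
    have h2 : t x ∈ (h.diff r).range := by
      rw [← h1, im_mul, hg₀]
      exact apply_mem_im (φ := R.subtype) (g := tR) hx
    rw [mul_inv_eq_one.1 (d.disj _ (mul_mem h2 (inv_mem hx)) (hdiffZ hsh x))]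
  -- covering: each vector outside `Z` is fixed by at most one shear
  have huniq : ∀ {u u' : MulAut V}, u ∈ E → (∀ w, (u w)⁻¹ * w ∈ Z) → u ≠ 1 → u' ∈ E → (∀ w, (u' w)⁻¹ * w ∈ Z) →
      u' ≠ 1 → ∀ v, v ∉ Z → u v = v → u' v = v → u = u' := by
    intro u u' hu hus hu1 hu' hus' hu1' v hv hfu hfu'
    obtain ⟨g, hg⟩ := hcov v
    have hgZ : im R.subtype g Z ≠ Z := fun e => hv (e ▸ hg)
    have hb : (g : MulAut V)⁻¹ v ∈ Z := mem_im.1 hg
    have hb1 : (g : MulAut V)⁻¹ v ≠ 1 := fun e => hv (by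
      rw [(map_eq_one_iff _ ((g : MulAut V)⁻¹).injective).1 e]; exact one_mem Z)
    let Q₀ : Subgroup (MulAut V) :=
      { carrier := {y | y ∈ E ∧ (∀ w, (y w)⁻¹ * w ∈ Z) ∧ y v = v}
        one_mem' := ⟨one_mem E, fun w => by rw [MulAut.one_apply, inv_mul_cancel]; exact one_mem Z, rfl⟩
        mul_mem' := fun {a b} ha hb => ⟨mul_mem ha.1 hb.1, fun w => by
          have := mul_mem (ha.2.1 (b w)) (hb.2.1 w)
          rwa [mul_assoc, mul_inv_cancel_left] at this, by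
          show a (b v) = v
          rw [hb.2.2, ha.2.2]⟩
        inv_mem' := fun {a} ha => ⟨inv_mem ha.1, fun w => by
          have := inv_mem (ha.2.1 (a⁻¹ w))
          rwa [MulAut.apply_inv_self, mul_inv, inv_inv, mul_comm] at this, by
          conv_lhs => rw [← ha.2.2]
          exact MulAut.inv_apply_self _ _ _⟩ }
    let Q : Subgroup (MulAut V) := Q₀.map (MulAut.conj (g : MulAut V)⁻¹).toMonoidHom
    have hQ2 : IsPGroup 2 Q := (IsPGroup.map (fun y => ⟨1, Subtype.ext (by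
      rw [pow_one, pow_two]; exact htt y.2.1 y.2.2.1)⟩ : IsPGroup 2 Q₀) _)
    have hQR : Q ≤ R := by
      rintro _ ⟨y, hy, rfl⟩
      exact mul_mem (mul_mem (inv_mem g.2) (h.le hy.1)) (inv_mem (inv_mem g.2))
    have hQs : Q ≤ stabZ Z := by
      rintro _ ⟨y, hy, rfl⟩
      refine mem_stabZ (d.ti ⟨_, hQR ⟨y, hy, rfl⟩⟩ _ hb hb1 ?_)
      show ((g : MulAut V)⁻¹ * y * ((g : MulAut V)⁻¹)⁻¹) ((g : MulAut V)⁻¹ v) ∈ Z
      rw [inv_inv, MulAut.mul_apply, MulAut.mul_apply, MulAut.apply_inv_self, hy.2.2]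
      exact hb
    obtain ⟨q, hq, hgen⟩ := h.quot_cyclic Q hQR hQ2 hQs
    have hzero : ∀ y ∈ Q₀, (∀ w, ((MulAut.conj (g : MulAut V)⁻¹ y) w)⁻¹ * w ∈ Z) → y = 1 := by
      intro y hy hc
      refine MulEquiv.ext fun w => ?_
      have h1 := hc ((g : MulAut V)⁻¹ w)
      rw [MulAut.conj_apply, inv_inv, MulAut.mul_apply, MulAut.mul_apply, MulAut.apply_inv_self] at h1
      have h2 : (y w)⁻¹ * w ∈ im R.subtype g Z := mem_im.2 (by
        show (g : MulAut V)⁻¹ ((y w)⁻¹ * w) ∈ Z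
        rw [map_mul, map_inv]; exact h1)
      by_contra hne
      exact d.not_mem_Z_of_im hgZ h2 (fun e => hne (inv_mul_eq_one.1 e)) (hy.2.1 w)
    have hsq : ∀ y ∈ Q, y * y = 1 := by
      rintro _ ⟨y, hy, rfl⟩
      rw [← map_mul, htt hy.1 hy.2.1, map_one]
    have hq2 : ∀ i : ℕ, q ^ i = 1 ∨ q ^ i = q := by
      intro i
      induction i with
      | zero => exact .inl (pow_zero q)
      | succ i ih =>
        rcases ih with e | e
        · exact .inr (by rw [pow_succ, e, one_mul])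
        · exact .inl (by rw [pow_succ, e, hsq q hq])
    have key : ∀ y ∈ Q₀, y ≠ 1 → ∀ w, ((MulAut.conj (g : MulAut V)⁻¹ y) w)⁻¹ * q w ∈ Z := by
      intro y hy hy1
      obtain ⟨i, hi⟩ := hgen _ ⟨y, hy, rfl⟩
      rcases hq2 i with e | e
      · refine absurd (hzero y hy fun w => ?_) hy1
        have := hi w
        rw [e] at this
        exact this
      · intro w
        have := hi w
        rw [e] at this
        exact this
    have hy : u⁻¹ * u' ∈ Q₀ := mul_mem (inv_mem (show u ∈ Q₀ from ⟨hu, hus, hfu⟩)) ⟨hu', hus', hfu'⟩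
    refine inv_mul_eq_one.1 (hzero _ hy fun w => ?_)
    have h1 := key u ⟨hu, hus, hfu⟩ hu1 ((MulAut.conj (g : MulAut V)⁻¹ (u⁻¹ * u')) w)
    have h2 := key u' ⟨hu', hus', hfu'⟩ hu1' w
    have e : (MulAut.conj (g : MulAut V)⁻¹ u) ((MulAut.conj (g : MulAut V)⁻¹ (u⁻¹ * u')) w) =
        (MulAut.conj (g : MulAut V)⁻¹ u') w := by
      rw [← MulAut.mul_apply, ← map_mul, mul_inv_cancel_left]
    rw [e] at h1
    have h3 := mul_mem (inv_mem h1) h2
    rw [mul_inv, inv_inv, mul_comm ((MulAut.conj (g : MulAut V)⁻¹ u') w) _, mul_assoc, mul_inv_cancel_left,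
      ← map_inv] at h3
    have h4 : (((MulAut.conj (g : MulAut V)⁻¹ (u⁻¹ * u')) w)⁻¹ * w) ∈ Z := by
      have hqs : q ∈ stabZ Z := hQs hq
      refine (hqs _).1 ?_
      rw [map_mul]
      exact h3
    exact h4
  -- conjugates of `t` by powers of `r`
  have hconj : ∀ j : ℕ, r ^ j * t * (r ^ j)⁻¹ ∈ E ∧ (∀ w, ((r ^ j * t * (r ^ j)⁻¹) w)⁻¹ * w ∈ Z) ∧
      r ^ j * t * (r ^ j)⁻¹ ≠ 1 := fun j => by
    refine ⟨mul_mem (mul_mem (pow_mem hrE j) ht) (inv_mem (pow_mem hrE j)), fun w => ?_,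
      fun e => ht1 (conj_eq_one_iff.1 e)⟩
    have h1 := hsh ((r ^ j)⁻¹ w)
    rw [← h.fixZ _ (pow_mem hrE j) _ h1] at h1
    rwa [map_mul, map_inv, MulAut.apply_inv_self] at h1
  have hfree : ∀ j : ℕ, r ^ j * t * (r ^ j)⁻¹ = t → r ^ j = 1 := by
    intro j hj
    by_contra hne
    refine ht1 (MulEquiv.ext fun w => ?_)
    obtain ⟨x, hx, z, hz, rfl⟩ := d.sup w
    rw [MulAut.one_apply, map_mul, h.fixZ t ht z hz]
    congr 1
    let f : (h.diff r).range → (h.diff r).range := fun y =>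
      ⟨(r ^ j) y.1 * y.1⁻¹, mul_mem (d.pow_H j y.1 y.2) (inv_mem y.2)⟩
    have hf : Function.Injective f := fun a b e => by
      have e' : (r ^ j) a.1 * a.1⁻¹ = (r ^ j) b.1 * b.1⁻¹ := congrArg Subtype.val e
      refine Subtype.ext (mul_inv_eq_one.1 (d.disj _ (mul_mem a.2 (inv_mem b.2)) ((hfix j hne _).1 ?_)))
      rw [map_mul, map_inv, ← div_eq_mul_inv, ← div_eq_mul_inv, div_eq_div_iff_mul_eq_mul]
      rw [← div_eq_mul_inv, ← div_eq_mul_inv, div_eq_div_iff_mul_eq_mul] at e'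
      rw [e', mul_comm]
    obtain ⟨y, hy⟩ := Finite.injective_iff_surjective.1 hf ⟨x, hx⟩
    have hy' : (r ^ j) y.1 * y.1⁻¹ = x := congrArg Subtype.val hy
    rw [← hy', map_mul, map_inv]
    have e1 : t ((r ^ j) y.1) = (r ^ j) (t y.1) := by
      conv_lhs => rw [← hj]
      show (r ^ j) (t ((r ^ j)⁻¹ ((r ^ j) y.1))) = _
      rw [MulAut.inv_apply_self]
    rw [e1, ← div_eq_mul_inv, ← div_eq_mul_inv, ← div_mul_cancel (t y.1) y.1, map_mul]
    rw [h.fixZ _ (pow_mem hrE j) _ (by rw [div_eq_mul_inv]; exact hdiffZ hsh y.1), mul_div_mul_left_eq_div]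
  -- the count
  set F := fixedBy R.subtype tR with hF
  have hFmem : ∀ v, v ∈ F ↔ t v = v := fun v => Iff.rfl
  have hZF : (Z : Set V) ⊆ F := fun z hz => h.fixZ t ht z hz
  have hM : (2 ^ n - 1) * ((F : Set V).ncard - (Z : Set V).ncard) ≤ (2 ^ n - 1) * (Z : Set V).ncard := by
    let f : Fin (2 ^ n - 1) × ↥((F : Set V) \ Z) → ↥((Z : Set V)ᶜ) := fun p => ⟨(r ^ (p.1 : ℕ)) p.2.1, fun hz => p.2.2.2 (by
      have e := h.fixZ _ (pow_mem hrE p.1) _ hz
      rw [← (r ^ (p.1 : ℕ)).injective e]; exact hz)⟩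
    have hf : Function.Injective f := by
      intro p p' e
      have e' : (r ^ (p.1 : ℕ)) p.2.1 = (r ^ (p'.1 : ℕ)) p'.2.1 := congrArg Subtype.val e
      have hfx : ∀ q : Fin (2 ^ n - 1) × ↥((F : Set V) \ Z),
          (r ^ (q.1 : ℕ) * t * (r ^ (q.1 : ℕ))⁻¹) ((r ^ (q.1 : ℕ)) q.2.1) = (r ^ (q.1 : ℕ)) q.2.1 := fun q => by
        show (r ^ (q.1 : ℕ)) (t ((r ^ (q.1 : ℕ))⁻¹ ((r ^ (q.1 : ℕ)) q.2.1))) = _
        rw [MulAut.inv_apply_self, (hFmem _).1 q.2.2.1]
      have h1 := huniq (hconj p.1).1 (hconj p.1).2.1 (hconj p.1).2.2 (hconj p'.1).1 (hconj p'.1).2.1 (hconj p'.1).2.2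
        _ (f p).2 (hfx p) (by rw [show ((f p).1) = (r ^ (p'.1 : ℕ)) p'.2.1 from e']; exact hfx p')
      have h2 : p.1 = p'.1 := by
        have key : ∀ i j : ℕ, i ≤ j → j < 2 ^ n - 1 →
            r ^ i * t * (r ^ i)⁻¹ = r ^ j * t * (r ^ j)⁻¹ → i = j := by
          intro i j hij hj h1
          by_contra hne
          refine pow_ne_one_of_lt_orderOf (show j - i ≠ 0 by omega) (by rw [hr]; omega) (hfree (j - i) ?_)
          rw [← Nat.add_sub_cancel' hij, pow_add] at h1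
          apply mul_left_cancel (a := r ^ i)
          apply mul_right_cancel (b := (r ^ i)⁻¹)
          rw [h1]
          group
        exact Fin.ext ((le_total (p.1 : ℕ) p'.1).elim (fun hle => key _ _ hle p'.1.2 h1)
          (fun hle => (key _ _ hle p.1.2 h1.symm).symm))
      rw [← h2] at e'
      exact Prod.ext h2 (Subtype.ext ((r ^ (p.1 : ℕ)).injective e'))
    have := Nat.card_le_card_of_injective f hf
    rw [Nat.card_prod, Nat.card_fin, Nat.card_coe_set_eq, Nat.card_coe_set_eq, Set.ncard_sdiff hZF,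
      Set.ncard_compl, d.card_V] at this
    refine this.trans (le_of_eq ?_)
    rw [← Nat.card_coe_set_eq (Z : Set V)]
    show 2 ^ n * Nat.card Z - Nat.card Z = (2 ^ n - 1) * Nat.card Z
    rw [Nat.sub_mul, one_mul]
  have hFZ : (F : Set V).ncard ≤ 2 * (Z : Set V).ncard := by
    have hpos : 0 < 2 ^ n - 1 := by have := d.one_lt_pow; omega
    have := Nat.le_of_mul_le_mul_left hM hpos
    omega
  rw [← Nat.card_coe_set_eq, ← Nat.card_coe_set_eq] at hFZ
  change Nat.card F ≤ 2 * Nat.card Z at hFZ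
  -- lower bounds
  have hF2 : Nat.card V ≤ Nat.card F * Nat.card Z := by
    have hk : (h.diff t).ker = F := by
      ext v
      rw [MonoidHom.mem_ker, diff_apply, mul_inv_eq_one, hFmem]
    rw [← card_mul_index (h.diff t).ker, index_ker, hk]
    refine Nat.mul_le_mul_left _ (Nat.le_of_dvd Nat.card_pos (card_dvd_of_le ?_))
    rintro _ ⟨v, rfl⟩
    exact hdiffZ hsh v
  obtain ⟨g, hg⟩ := hcov v₀
  have hgZ : im R.subtype g Z ≠ Z := fun e => hv₀ (e ▸ hg)
  have hv1 : v₀ ≠ 1 := fun e => hv₀ (e ▸ one_mem Z)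
  have hst : im R.subtype (tR * g) Z = im R.subtype g Z := d.im_eq_of_mem hv1 (by
    rw [im_mul]
    have := apply_mem_im (φ := R.subtype) (g := tR) hg
    rwa [show R.subtype tR v₀ = v₀ from htv₀] at this) hg
  have hgF : im R.subtype g Z ≤ F := by
    intro u hu
    rw [hFmem]
    by_contra hne
    refine d.not_mem_Z_of_im hgZ (mul_mem ?_ (inv_mem hu)) (fun e => hne (mul_inv_eq_one.1 e)) (hdiffZ hsh u)
    rw [← hst, im_mul]
    exact apply_mem_im hu
  have hF3 : Nat.card Z * Nat.card Z ≤ Nat.card F := by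
    have h0 : Nat.card Z * Nat.card Z = Nat.card Z * Nat.card ↥(im R.subtype g Z) :=
      congrArg (Nat.card Z * ·) (card_im g Z).symm
    rw [h0, ← Nat.card_prod]
    refine Nat.card_le_card_of_injective (fun p : Z × ↥(im R.subtype g Z) =>
      (⟨p.1.1 * p.2.1, mul_mem (hZF p.1.2) (hgF p.2.2)⟩ : F)) fun p q e => ?_
    have e' : (p.1 : V) * p.2 = q.1 * q.2 := congrArg Subtype.val e
    have h1 : (q.1 : V)⁻¹ * p.1 = q.2 * (p.2 : V)⁻¹ := by
      rw [eq_mul_inv_iff_mul_eq, mul_assoc, e', inv_mul_cancel_left]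
    have h2 : (q.1 : V)⁻¹ * p.1 = 1 := by
      by_contra hne
      exact d.not_mem_Z_of_im hgZ (h1 ▸ mul_mem q.2.2 (inv_mem p.2.2)) hne (mul_mem (inv_mem q.1.2) p.1.2)
    exact Prod.ext (Subtype.ext (inv_mul_eq_one.1 h2).symm) (Subtype.ext (mul_inv_eq_one.1 (h1.symm.trans h2)).symm)
  have hZ2 : Nat.card Z ≤ 2 := Nat.le_of_mul_le_mul_right (hF3.trans hFZ) Nat.card_pos
  rw [d.card_V] at hF2
  have h5 : 2 ^ n ≤ Nat.card F := Nat.le_of_mul_le_mul_right hF2 Nat.card_pos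
  refine ht1 (h4 ?_)
  have := d.one_lt_pow
  rw [hidx]; omega

/-- RLIN. -/
theorem rlin_raw : (Nat.card V = 8 ∧ Odd (Nat.card R)) ∨
      ∃ H : Subgroup V, Z ⊓ H = ⊥ ∧ Z ⊔ H = ⊤ ∧ Nat.card H = Nat.card Z ∧
        ∀ g ∈ R, (∀ z ∈ Z, g z ∈ Z) ∨ ∀ z ∈ Z, g z ∈ H := by
  obtain ⟨n, r, hn, hidx, hrE, hr, hfix, hgen⟩ := h.exists_rot
  have hE : ∀ e ∈ E, ∃ j : ℕ, e = r ^ j := fun e he => by
    obtain ⟨j, hj⟩ := hgen e he
    exact ⟨j, (inv_mul_eq_one.1 (h.shear_trivial hn hidx hrE hr hfix (mul_mem (inv_mem (pow_mem hrE j)) he) hj)).symm⟩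
  have d := h.pre hn hidx hrE hr hfix
  have hyp : Hyp R.subtype (⟨r, h.le hrE⟩ : R) (h.diff r).range Z n := by
    refine { toPre := d, stabH := ?_, cyc := ?_ }
    · rintro g hg _ ⟨v, rfl⟩
      obtain ⟨j, hj⟩ := hE _ (h.normE g g.2 hg r hrE)
      show (g : MulAut V) (r v * v⁻¹) ∈ _
      have e : (g : MulAut V) (r v) = (r ^ j) ((g : MulAut V) v) := by
        rw [← hj, MulAut.mul_apply, MulAut.mul_apply, MulAut.inv_apply_self]
      rw [map_mul, map_inv, e]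
      exact d.comm_mem_H j _
    · intro b hb hb1 Q hQ hfixQ
      have hst : ∀ g ∈ Q, ∀ z ∈ Z, (g : MulAut V) z ∈ Z := fun g hg =>
        d.ti g b hb hb1 (by rw [show R.subtype g b = b from hfixQ g hg]; exact hb)
      obtain ⟨_, ⟨q, hq, rfl⟩, hgen'⟩ := h.quot_cyclic (Q.map R.subtype) (map_subtype_le Q) (hQ.map R.subtype)
        (by rintro _ ⟨g, hg, rfl⟩; exact mem_stabZ (hst g hg))
      refine ⟨q, hq, fun g hg => ?_⟩
      obtain ⟨i, hi⟩ := hgen' _ ⟨g, hg, rfl⟩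
      refine ⟨i, fun x hx => ?_⟩
      have hH : ∀ g' ∈ Q, (g' : MulAut V) x ∈ (h.diff r).range := by
        intro g' hg'
        obtain ⟨v, rfl⟩ := hx
        obtain ⟨j, hj⟩ := hE _ (h.normE g' g'.2 (hst g' hg') r hrE)
        show (g' : MulAut V) (r v * v⁻¹) ∈ _
        have e : (g' : MulAut V) (r v) = (r ^ j) ((g' : MulAut V) v) := by
          rw [← hj, MulAut.mul_apply, MulAut.mul_apply, MulAut.inv_apply_self]
        rw [map_mul, map_inv, e]
        exact d.comm_mem_H j _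
      have h1 := hi x
      rw [← map_pow] at h1
      exact inv_mul_eq_one.1 (d.disj _ (mul_mem (inv_mem (hH g hg)) (hH _ (pow_mem hq i))) h1)
  rcases rlin hyp with ⟨⟨g₀, hg₀⟩, hall⟩ | ⟨-, -, hV, hodd, -⟩
  · refine .inr ⟨(h.diff r).range, ?_, ?_, ?_, fun g hg => ?_⟩
    · exact eq_bot_iff.2 fun x hx => mem_bot.2 (d.disj x hx.2 hx.1)
    · refine (eq_top_iff' _).2 fun v => ?_
      obtain ⟨x, hx, z, hz, rfl⟩ := d.sup v
      exact mul_mem (mem_sup_right hx) (mem_sup_left hz)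
    · rw [← hg₀, card_im]
    · refine (hall ⟨g, hg⟩).imp (fun e z hz => ?_) fun e z hz => ?_ <;> rw [← e] <;>
        exact apply_mem_im (φ := R.subtype) (g := ⟨g, hg⟩) hz
  · exact .inl ⟨hV, hodd⟩

end Raw

end Cfsg.Lib.Goldschmidt.Rlin

namespace Cfsg.Lib.Goldschmidt

universe u

theorem rlinSpec : RLINSpec.{u} := fun _ _ _ _ _ _ h1 h2 h3 h4 h5 h6 h7 h8 h9 h10 h11 h12 =>
  Rlin.Raw.rlin_raw ⟨h1, h2, h3, h4, h5, h6, h7, h8, h9, h10, h11, h12⟩

end Cfsg.Lib.Goldschmidt
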