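import Mathlib.GroupTheory.PGroup
import Mathlib.GroupTheory.OrderOfElement
import Mathlib.Data.Set.Card

/-!
An irreducible group on an elementary abelian 2-group with a TI subgroup fixed by a regular cyclic group:
definitions and first facts.
-/

set_option autoImplicit false
set_option linter.unusedSectionVars false
set_option linter.style.haveILetI false

namespace Cfsg.Lib.Goldschmidt.Rlin

open Subgroup

variable {R V : Type*} [Group R] [Finite R] [CommGroup V] [Finite V]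

/-- The basic hypotheses: `V = H × Z`, `Z` is TI, `r` fixes `Z` and is regular on `H`. -/
structure Pre (φ : R →* MulAut V) (r : R) (H Z : Subgroup V) (n : ℕ) : Prop where
  sq : ∀ v : V, v * v = 1
  inj : Function.Injective φ
  irr : ∀ U : Subgroup V, (∀ g : R, ∀ v ∈ U, φ g v ∈ U) → U = ⊥ ∨ U = ⊤
  hn : 2 ≤ n
  cardH : Nat.card H = 2 ^ n
  Zne : Z ≠ ⊥
  disj : ∀ v, v ∈ H → v ∈ Z → v = 1
  sup : ∀ v : V, ∃ h ∈ H, ∃ z ∈ Z, h * z = v
  hr : orderOf r = 2 ^ n - 1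
  fix : ∀ j : ℕ, r ^ j ≠ 1 → ∀ v : V, φ (r ^ j) v = v ↔ v ∈ Z
  rH : ∀ h ∈ H, φ r h ∈ H
  ti : ∀ g : R, ∀ b ∈ Z, b ≠ 1 → φ g b ∈ Z → ∀ z ∈ Z, φ g z ∈ Z

/-- The hypotheses: moreover the stabiliser of `Z` stabilises `H` and the 2-subgroups fixing a point of `Z`
act cyclically on `H`. -/
structure Hyp (φ : R →* MulAut V) (r : R) (H Z : Subgroup V) (n : ℕ) : Prop extends Pre φ r H Z n where
  stabH : ∀ g : R, (∀ z ∈ Z, φ g z ∈ Z) → ∀ h ∈ H, φ g h ∈ H
  cyc : ∀ b ∈ Z, b ≠ 1 → ∀ Q : Subgroup R, IsPGroup 2 Q → (∀ g ∈ Q, φ g b = b) →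
    ∃ q ∈ Q, ∀ g ∈ Q, ∃ i : ℕ, ∀ h ∈ H, φ g h = φ (q ^ i) h

/-- the image of a subgroup under `φ g` -/
def im (φ : R →* MulAut V) (g : R) (U : Subgroup V) : Subgroup V := U.map (φ g).toMonoidHom

variable {φ : R →* MulAut V}

theorem mem_im {g : R} {U : Subgroup V} {v : V} : v ∈ im φ g U ↔ φ g⁻¹ v ∈ U := by
  constructor
  · rintro ⟨u, hu, rfl⟩
    show φ g⁻¹ (φ g u) ∈ U
    rw [← MulAut.mul_apply, ← map_mul, inv_mul_cancel, map_one, MulAut.one_apply]
    exact hu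
  · intro h
    refine ⟨φ g⁻¹ v, h, ?_⟩
    show φ g (φ g⁻¹ v) = v
    rw [← MulAut.mul_apply, ← map_mul, mul_inv_cancel, map_one, MulAut.one_apply]

theorem apply_mem_im {g : R} {U : Subgroup V} {v : V} (h : v ∈ U) : φ g v ∈ im φ g U := ⟨v, h, rfl⟩

theorem im_mul (g g' : R) (U : Subgroup V) : im φ (g * g') U = im φ g (im φ g' U) := by
  ext v
  rw [mem_im, mem_im, mem_im, mul_inv_rev, map_mul, MulAut.mul_apply]

theorem im_one (U : Subgroup V) : im φ 1 U = U := by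
  ext v
  rw [mem_im, inv_one, map_one, MulAut.one_apply]

theorem im_mono (g : R) {U U' : Subgroup V} (h : U ≤ U') : im φ g U ≤ im φ g U' := map_mono h

theorem le_im_iff {g : R} {U U' : Subgroup V} : im φ g U ≤ U' ↔ U ≤ im φ g⁻¹ U' := by
  constructor <;> intro h
  · have := im_mono (φ := φ) g⁻¹ h
    rwa [← im_mul, inv_mul_cancel, im_one] at this
  · have := im_mono (φ := φ) g h
    rwa [← im_mul, mul_inv_cancel, im_one] at this

theorem card_im (g : R) (U : Subgroup V) : Nat.card ↥(im φ g U) = Nat.card U :=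
  card_map_of_injective (φ g).injective

theorem im_eq_of_le {g : R} {U : Subgroup V} (h : ∀ u ∈ U, φ g u ∈ U) : im φ g U = U := by
  refine Subgroup.eq_of_le_of_card_ge ?_ (card_im g U).ge
  rintro _ ⟨u, hu, rfl⟩
  exact h u hu

theorem im_inv_eq {g : R} {U : Subgroup V} (h : im φ g U = U) : im φ g⁻¹ U = U := by
  conv_lhs => rw [← h]
  rw [← im_mul, inv_mul_cancel, im_one]

variable {r : R} {H Z : Subgroup V} {n : ℕ}

namespace Pre

variable (d : Pre φ r H Z n)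
include d

theorem im_eq_of_mem {g g' : R} {v : V} (hv : v ≠ 1) (h : v ∈ im φ g Z) (h' : v ∈ im φ g' Z) :
    im φ g Z = im φ g' Z := by
  have e : im φ (g'⁻¹ * g) Z = Z := by
    refine im_eq_of_le (d.ti _ (φ g⁻¹ v) (mem_im.1 h) (fun e => hv ((map_eq_one_iff _ (φ g⁻¹).injective).1 e)) ?_)
    rw [← MulAut.mul_apply, ← map_mul, mul_assoc, mul_inv_cancel, mul_one]
    exact mem_im.1 h'
  calc im φ g Z = im φ (g' * (g'⁻¹ * g)) Z := by rw [mul_inv_cancel_left]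
    _ = im φ g' Z := by rw [im_mul, e]

theorem inv_self (v : V) : v⁻¹ = v := inv_eq_of_mul_eq_one_right (d.sq v)

theorem one_lt_pow : 4 ≤ 2 ^ n := by
  calc 4 = 2 ^ 2 := rfl
    _ ≤ 2 ^ n := Nat.pow_le_pow_right two_pos d.hn

theorem exists_Z : ∃ z ∈ Z, z ≠ (1 : V) := (Subgroup.ne_bot_iff_exists_ne_one.1 d.Zne).elim fun z hz =>
  ⟨z, z.2, fun e => hz (Subtype.ext e)⟩

theorem exists_H : ∃ h ∈ H, h ≠ (1 : V) := by
  haveI : Nontrivial H := Finite.one_lt_card_iff_nontrivial.1 (by have := d.one_lt_pow; rw [d.cardH]; omega)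
  obtain ⟨h, hh⟩ := exists_ne (1 : H)
  exact ⟨h, h.2, fun e => hh (Subtype.ext e)⟩

theorem card_V : Nat.card V = 2 ^ n * Nat.card Z := by
  rw [← d.cardH, ← Nat.card_prod]
  refine (Nat.card_eq_of_bijective (fun p : H × Z => (p.1 : V) * p.2) ⟨fun p q e => ?_, fun v => ?_⟩).symm
  · have e' : (p.1 : V) * p.2 = q.1 * q.2 := e
    have h1 : (q.1 : V)⁻¹ * p.1 = q.2 * (p.2 : V)⁻¹ := by
      rw [eq_mul_inv_iff_mul_eq, mul_assoc, e', inv_mul_cancel_left]
    have h2 := d.disj _ (mul_mem (inv_mem q.1.2) p.1.2) (h1 ▸ mul_mem q.2.2 (inv_mem p.2.2))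
    exact Prod.ext (Subtype.ext (inv_mul_eq_one.1 h2).symm) (Subtype.ext (mul_inv_eq_one.1 (h1.symm.trans h2)).symm)
  · obtain ⟨h, hh, z, hz, e⟩ := d.sup v
    exact ⟨(⟨h, hh⟩, ⟨z, hz⟩), e⟩

theorem pow_fix (j : ℕ) {z : V} (hz : z ∈ Z) : φ (r ^ j) z = z := by
  rcases eq_or_ne (r ^ j) 1 with e | e
  · rw [e, map_one, MulAut.one_apply]
  · exact (d.fix j e z).2 hz

theorem pow_H (j : ℕ) : ∀ h ∈ H, φ (r ^ j) h ∈ H := by
  induction j with
  | zero => intro h hh; rwa [pow_zero, map_one, MulAut.one_apply]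
  | succ j ih => intro h hh; rw [pow_succ, map_mul, MulAut.mul_apply]; exact ih _ (d.rH h hh)

theorem im_pow_Z (j : ℕ) : im φ (r ^ j) Z = Z := im_eq_of_le fun z hz => by rwa [d.pow_fix j hz]

theorem comm_mem_H (j : ℕ) (v : V) : φ (r ^ j) v * v⁻¹ ∈ H := by
  obtain ⟨h, hh, z, hz, rfl⟩ := d.sup v
  rw [map_mul, d.pow_fix j hz, mul_inv, mul_mul_mul_comm, mul_inv_cancel, mul_one]
  exact mul_mem (d.pow_H j h hh) (inv_mem hh)

theorem eq_of_pow {i j : ℕ} {v : V} (hi : i < 2 ^ n - 1) (hj : j < 2 ^ n - 1) (hv : v ∉ Z)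
    (e : φ (r ^ i) v = φ (r ^ j) v) : i = j := by
  wlog hij : i ≤ j generalizing i j
  · exact (this hj hi e.symm (le_of_not_ge hij)).symm
  by_contra hne
  have e' : φ (r ^ (j - i)) v = v := (φ (r ^ i)).injective (by
    rw [← MulAut.mul_apply, ← map_mul, ← pow_add, Nat.add_sub_cancel' hij, e])
  refine hv ((d.fix (j - i) ?_ v).1 e')
  exact pow_ne_one_of_lt_orderOf (by omega) (by rw [d.hr]; omega)

/-- `r` is transitive on the nonidentity elements of `H`. -/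
theorem transH {h h' : V} (hh : h ∈ H) (h1 : h ≠ 1) (hh' : h' ∈ H) (h1' : h' ≠ 1) :
    ∃ j, φ (r ^ j) h = h' := by
  classical
  have hZ : h ∉ Z := fun e => h1 (d.disj h hh e)
  let f : Fin (2 ^ n - 1) → {x : H // x ≠ 1} := fun j =>
    ⟨⟨φ (r ^ (j : ℕ)) h, d.pow_H _ h hh⟩, fun e => h1
      ((map_eq_one_iff _ (φ (r ^ (j : ℕ))).injective).1 (congrArg Subtype.val e))⟩
  have hf : Function.Injective f := fun i j e =>
    Fin.ext (d.eq_of_pow i.2 j.2 hZ (congrArg (fun x : {x : H // x ≠ 1} => ((x : H) : V)) e))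
  have hb := hf.bijective_of_nat_card_le (by
    haveI := Fintype.ofFinite H
    rw [Nat.card_eq_fintype_card, Fintype.card_subtype_compl, Fintype.card_subtype_eq, Nat.card_fin,
      ← Nat.card_eq_fintype_card, d.cardH])
  obtain ⟨j, hj⟩ := hb.2 ⟨⟨h', hh'⟩, fun e => h1' (congrArg Subtype.val e)⟩
  exact ⟨j, congrArg (fun x : {x : H // x ≠ 1} => ((x : H) : V)) hj⟩

theorem not_mem_Z_of_im {g : R} (hg : im φ g Z ≠ Z) {v : V} (hv : v ∈ im φ g Z) (h1 : v ≠ 1) : v ∉ Z :=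
  fun h => hg ((d.im_eq_of_mem h1 hv (g' := 1) (by rwa [im_one])).trans (im_one Z))

/-- A power of `r` stabilising a further conjugate puts it inside `H`. -/
theorem le_H_of_pow {g : R} (hg : im φ g Z ≠ Z) {j : ℕ} (hj : r ^ j ≠ 1)
    (h : im φ (r ^ j * g) Z = im φ g Z) : im φ g Z ≤ H := by
  have hmem : ∀ v : ↥(im φ g Z), φ (r ^ j) v.1 * v.1⁻¹ ∈ im φ g Z := fun v => by
    refine mul_mem ?_ (inv_mem v.2)
    have h' := im_mul (φ := φ) (r ^ j) g Z
    exact h.le (h' ▸ apply_mem_im v.2)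
  let f : ↥(im φ g Z) → ↥(im φ g Z) := fun v => ⟨φ (r ^ j) v.1 * v.1⁻¹, hmem v⟩
  have hf : Function.Injective f := by
    intro v w e
    have e' : φ (r ^ j) v.1 * v.1⁻¹ = φ (r ^ j) w.1 * w.1⁻¹ := congrArg Subtype.val e
    have e'' : φ (r ^ j) (v.1 * w.1⁻¹) = v.1 * w.1⁻¹ := by
      rw [← div_eq_mul_inv, ← div_eq_mul_inv, div_eq_div_iff_mul_eq_mul] at e'
      rw [map_mul, map_inv, ← div_eq_mul_inv, ← div_eq_mul_inv, div_eq_div_iff_mul_eq_mul, e', mul_comm]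
    refine Subtype.ext (mul_inv_eq_one.1 ?_)
    by_contra hne
    exact d.not_mem_Z_of_im hg (mul_mem v.2 (inv_mem w.2)) hne ((d.fix j hj _).1 e'')
  intro v hv
  obtain ⟨w, hw⟩ := (Finite.injective_iff_surjective.1 hf) ⟨v, hv⟩
  have e : φ (r ^ j) w.1 * w.1⁻¹ = v := congrArg Subtype.val hw
  exact e ▸ d.comm_mem_H j w.1

end Pre

namespace Hyp

variable (d : Hyp φ r H Z n)
include d

theorem im_H {g : R} (h : im φ g Z = Z) : im φ g H = H :=
  im_eq_of_le (d.stabH g fun z hz => by have := apply_mem_im (φ := φ) (g := g) hz; rwa [h] at this)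

theorem im_H_congr {g g' : R} (h : im φ g Z = im φ g' Z) : im φ g H = im φ g' H := by
  have h1 : im φ (g'⁻¹ * g) Z = Z := by rw [im_mul, h, ← im_mul, inv_mul_cancel, im_one]
  have h2 := d.im_H h1
  calc im φ g H = im φ (g' * (g'⁻¹ * g)) H := by rw [mul_inv_cancel_left]
    _ = im φ g' H := by rw [im_mul, h2]

end Hyp

end Cfsg.Lib.Goldschmidt.Rlin
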