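import Cfsg.Agent.Goldschmidt.Rlin.Basic

/-!
The orbit of a TI subgroup covers everything or consists of two subgroups.
-/

set_option autoImplicit false
set_option linter.unusedSectionVars false
set_option linter.style.haveILetI false

namespace Cfsg.Lib.Goldschmidt.Rlin

open Subgroup

variable {R V : Type*} [Group R] [Finite R] [CommGroup V] [Finite V] {φ : R →* MulAut V} {r : R}
  {H Z : Subgroup V} {n : ℕ}

/-- the conjugates of `Z` cover everything -/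
def Covers (φ : R →* MulAut V) (Z : Subgroup V) : Prop := ∀ v : V, ∃ g, v ∈ im φ g Z

/-- the points of the `r`-orbit of a conjugate -/
def orb (φ : R →* MulAut V) (r g : R) (Z : Subgroup V) : Set V :=
  {v | v ≠ 1 ∧ ∃ j : ℕ, v ∈ im φ (r ^ j * g) Z}

namespace Pre

variable (d : Pre φ r H Z n)
include d

theorem free {g : R} (hg : im φ g Z ≠ Z) (hgH : ¬ im φ g Z ≤ H) {i j : ℕ} (hi : i < 2 ^ n - 1)
    (hj : j < 2 ^ n - 1) (e : im φ (r ^ i * g) Z = im φ (r ^ j * g) Z) : i = j := by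
  wlog hij : i ≤ j generalizing i j
  · exact (this hj hi e.symm (le_of_not_ge hij)).symm
  by_contra hne
  refine hgH (d.le_H_of_pow hg (j := j - i) (pow_ne_one_of_lt_orderOf (by omega) (by rw [d.hr]; omega)) ?_)
  have e1 : r ^ j * g = r ^ i * (r ^ (j - i) * g) := by
    rw [← mul_assoc, ← pow_add, Nat.add_sub_cancel' hij]
  rw [e1, im_mul (r ^ i), im_mul (r ^ i) (r ^ (j - i) * g)] at e
  exact (Subgroup.map_injective (φ (r ^ i)).injective e).symm

theorem im_pow_ne {g : R} (hg : im φ g Z ≠ Z) (j : ℕ) : im φ (r ^ j * g) Z ≠ Z := fun e => hg (by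
  rw [im_mul] at e
  exact Subgroup.map_injective (φ (r ^ j)).injective (e.trans (d.im_pow_Z j).symm))

theorem orb_disj {g : R} (hg : im φ g Z ≠ Z) {v : V} (hv : v ∈ orb φ r g Z) : v ∉ Z := by
  obtain ⟨h1, j, hj⟩ := hv
  exact d.not_mem_Z_of_im (d.im_pow_ne hg j) hj h1

theorem card_orb {g : R} (hg : im φ g Z ≠ Z) (hgH : ¬ im φ g Z ≤ H) :
    (orb φ r g Z).ncard = (2 ^ n - 1) * (Nat.card Z - 1) := by
  classical
  let f : Fin (2 ^ n - 1) × ↥(((im φ g Z : Subgroup V) : Set V) \ {1}) → ↥(orb φ r g Z) := fun p =>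
    ⟨φ (r ^ (p.1 : ℕ)) p.2.1,
      fun e => p.2.2.2 ((map_eq_one_iff _ (φ (r ^ (p.1 : ℕ))).injective).1 e),
      p.1, by rw [im_mul]; exact apply_mem_im p.2.2.1⟩
  have hf : Function.Bijective f := by
    constructor
    · intro p q e
      have e' : φ (r ^ (p.1 : ℕ)) p.2.1 = φ (r ^ (q.1 : ℕ)) q.2.1 := congrArg Subtype.val e
      have h1 : p.1 = q.1 := Fin.ext (d.free hg hgH p.1.2 q.1.2 (d.im_eq_of_mem
        (v := φ (r ^ (p.1 : ℕ)) p.2.1) (fun e => p.2.2.2 ((map_eq_one_iff _ (φ (r ^ (p.1 : ℕ))).injective).1 e))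
        (by rw [im_mul]; exact apply_mem_im p.2.2.1) (by rw [e', im_mul]; exact apply_mem_im q.2.2.1)))
      rw [← h1] at e'
      exact Prod.ext h1 (Subtype.ext ((φ (r ^ (p.1 : ℕ))).injective e'))
    · rintro ⟨v, h1, j, hj⟩
      have hpos : 0 < 2 ^ n - 1 := by have := d.one_lt_pow; omega
      refine ⟨(⟨j % (2 ^ n - 1), Nat.mod_lt _ hpos⟩, ⟨φ (r ^ j)⁻¹ v, ?_, ?_⟩), Subtype.ext ?_⟩
      · rw [im_mul] at hj; exact mem_im.1 hj
      · exact fun e => h1 ((map_eq_one_iff _ (φ (r ^ j)⁻¹).injective).1 e)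
      · show φ (r ^ (j % (2 ^ n - 1))) (φ (r ^ j)⁻¹ v) = v
        rw [← d.hr, pow_mod_orderOf, ← MulAut.mul_apply, ← map_mul, mul_inv_cancel, map_one,
          MulAut.one_apply]
  rw [← Nat.card_coe_set_eq, ← Nat.card_eq_of_bijective f hf, Nat.card_prod, Nat.card_fin,
    Nat.card_coe_set_eq, Set.ncard_sdiff_singleton_of_mem (one_mem (im φ g Z)), ← Nat.card_coe_set_eq]
  exact congrArg _ (congrArg (· - 1) (card_im g Z))

/-- the points outside `Z` and outside the orbit of a conjugate not in `H` form one coset -/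
theorem coset {g : R} (hg : im φ g Z ≠ Z) (hgH : ¬ im φ g Z ≤ H) :
    ∃ z₀ ∈ Z, ∀ v : V, (v ∉ Z ∧ v ∉ orb φ r g Z) ↔ ∃ h ∈ H, h ≠ 1 ∧ h * z₀ = v := by
  classical
  set C : Set V := {v | v ∉ Z ∧ v ∉ orb φ r g Z} with hC
  have hCcard : C.ncard = 2 ^ n - 1 := by
    have e : C = ((Z : Set V)ᶜ) \ orb φ r g Z := rfl
    rw [e, Set.ncard_sdiff (show orb φ r g Z ⊆ (Z : Set V)ᶜ from fun v hv => d.orb_disj hg hv), d.card_orb hg hgH, Set.ncard_compl,
      d.card_V, ← Nat.card_coe_set_eq (Z : Set V)]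
    show 2 ^ n * Nat.card Z - Nat.card Z - (2 ^ n - 1) * (Nat.card Z - 1) = 2 ^ n - 1
    obtain ⟨c, hc⟩ : ∃ c, Nat.card Z = c + 1 := ⟨Nat.card Z - 1, (Nat.succ_pred_eq_of_pos Nat.card_pos).symm⟩
    obtain ⟨N, hN⟩ : ∃ N, 2 ^ n = N + 1 := ⟨2 ^ n - 1, by have := d.one_lt_pow; omega⟩
    rw [hc, hN]
    simp only [Nat.add_sub_cancel]
    ring_nf; omega
  have hinv : ∀ v ∈ C, ∀ j : ℕ, φ (r ^ j) v ∈ C := by
    rintro v ⟨hvZ, hvo⟩ j
    refine ⟨fun hz => hvZ ?_, fun ho => hvo ?_⟩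
    · obtain ⟨h, hh, z, hz', rfl⟩ := d.sup v
      rw [map_mul, d.pow_fix j hz'] at hz
      have h1 : φ (r ^ j) h ∈ Z := (mul_mem_cancel_right hz').1 hz
      have h2 := (map_eq_one_iff _ (φ (r ^ j)).injective).1 (d.disj _ (d.pow_H j h hh) h1)
      rwa [h2, one_mul]
    · obtain ⟨h1, i, hi⟩ := ho
      refine ⟨fun e => h1 (by rw [e, map_one]), j * (orderOf r - 1) + i, ?_⟩
      rw [im_mul] at hi ⊢
      have e1 := mem_im.1 hi
      rw [← im_mul, mem_im]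
      rw [mem_im] at e1
      have e2 : r ^ (j * (orderOf r - 1) + i) = (r ^ j)⁻¹ * r ^ i := by
        rw [eq_inv_mul_iff_mul_eq, ← pow_add]
        have hpos := orderOf_pos r
        rw [show j + (j * (orderOf r - 1) + i) = orderOf r * j + i by
          obtain ⟨o, ho⟩ : ∃ o, orderOf r = o + 1 := ⟨orderOf r - 1, by omega⟩
          rw [ho, Nat.add_sub_cancel]; ring, pow_add, pow_mul, pow_orderOf_eq_one, one_pow, one_mul]
      rw [e2, mul_inv_rev, mul_inv_rev, inv_inv, map_mul, MulAut.mul_apply, map_mul, MulAut.mul_apply]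
      exact e1
  obtain ⟨v, hv⟩ : C.Nonempty := Set.nonempty_of_ncard_ne_zero (by have := d.one_lt_pow; omega)
  obtain ⟨h, hh, z₀, hz₀, hv'⟩ := d.sup v
  have h1 : h ≠ 1 := fun e => hv.1 (by rw [← hv', e, one_mul]; exact hz₀)
  refine ⟨z₀, hz₀, ?_⟩
  set O : Set V := (fun x => x * z₀) '' ((H : Set V) \ {1}) with hO
  have hsub : O ⊆ C := by
    rintro _ ⟨h', ⟨hh', h1'⟩, rfl⟩
    obtain ⟨j, hj⟩ := d.transH hh h1 hh' h1'
    have := hinv v hv j
    rwa [← hv', map_mul, hj, d.pow_fix j hz₀] at this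
  have hOC : O = C := by
    refine Set.eq_of_subset_of_ncard_le hsub (le_of_eq ?_) (Set.toFinite C)
    rw [hCcard, hO, Set.ncard_image_of_injective _ (mul_left_injective z₀),
      Set.ncard_sdiff_singleton_of_mem (one_mem H), ← Nat.card_coe_set_eq]
    exact congrArg (· - 1) d.cardH.symm
  intro w
  show w ∈ C ↔ _
  rw [← hOC]
  constructor
  · rintro ⟨h', ⟨hh', h1'⟩, rfl⟩; exact ⟨h', hh', h1', rfl⟩
  · rintro ⟨h', hh', h1', rfl⟩; exact ⟨h', ⟨hh', h1'⟩, rfl⟩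

theorem mem_prod {h : V} (hh : h ∈ H) :
    ∃ a ∈ H, ∃ b ∈ H, a ≠ 1 ∧ b ≠ 1 ∧ a * b = h := by
  classical
  haveI := Fintype.ofFinite H
  obtain ⟨a, -, ha⟩ := Finset.exists_mem_notMem_of_card_lt_card (s := ({1, ⟨h, hh⟩} : Finset H))
    (t := Finset.univ) (lt_of_le_of_lt Finset.card_le_two (by
      rw [Finset.card_univ, ← Nat.card_eq_fintype_card, d.cardH]; have := d.one_lt_pow; omega))
  simp only [Finset.mem_insert, Finset.mem_singleton, not_or] at ha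
  refine ⟨a, a.2, (a : V)⁻¹ * h, mul_mem (inv_mem a.2) hh, fun e => ha.1 (Subtype.ext e),
    fun e => ha.2 (Subtype.ext (inv_mul_eq_one.1 e)), mul_inv_cancel_left _ _⟩

theorem covers_of_outside {g : R} (hg : im φ g Z ≠ Z) (hgH : ¬ im φ g Z ≤ H) : Covers φ Z := by
  obtain ⟨z₀, hz₀, hC⟩ := d.coset hg hgH
  have hrest : ∀ v : V, ¬ (v ∉ Z ∧ v ∉ orb φ r g Z) → ∃ g', v ∈ im φ g' Z := by
    intro v hv
    by_cases h : v ∈ Z
    · exact ⟨1, by rwa [im_one]⟩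
    · obtain ⟨-, j, hj⟩ := not_not.1 fun h' => hv ⟨h, h'⟩
      exact ⟨_, hj⟩
  by_cases hex : ∃ v, (v ∉ Z ∧ v ∉ orb φ r g Z) ∧ ∃ g', v ∈ im φ g' Z
  · obtain ⟨v, hv, g', hg'⟩ := hex
    obtain ⟨h, hh, h1, hv'⟩ := (hC v).1 hv
    intro w
    by_cases hw : w ∉ Z ∧ w ∉ orb φ r g Z
    · obtain ⟨h', hh', h1', hw'⟩ := (hC w).1 hw
      obtain ⟨j, hj⟩ := d.transH hh h1 hh' h1'
      refine ⟨r ^ j * g', ?_⟩
      have := apply_mem_im (φ := φ) (g := r ^ j) hg'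
      rw [← im_mul, ← hv', map_mul, hj, d.pow_fix j hz₀, hw'] at this
      exact this
    · exact hrest w hw
  exfalso
  have hun : ∀ v, (v ∉ Z ∧ v ∉ orb φ r g Z) → ∀ x : R, φ x v ∉ Z ∧ φ x v ∉ orb φ r g Z := by
    intro v hv x
    by_contra hx
    obtain ⟨g', hg'⟩ := hrest _ hx
    refine hex ⟨v, hv, x⁻¹ * g', ?_⟩
    rw [mem_im] at hg' ⊢
    rw [mul_inv_rev, inv_inv, map_mul, MulAut.mul_apply]
    exact hg'
  rcases d.irr H (fun x h hh => by
    obtain ⟨a, ha, b, hb, ha1, hb1, rfl⟩ := d.mem_prod hh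
    obtain ⟨a', ha', -, ea⟩ := (hC _).1 (hun _ ((hC (a * z₀)).2 ⟨a, ha, ha1, rfl⟩) x)
    obtain ⟨b', hb', -, eb⟩ := (hC _).1 (hun _ ((hC (b * z₀)).2 ⟨b, hb, hb1, rfl⟩) x)
    have e : φ x (a * b) = a' * b' := by
      calc φ x (a * b) = φ x (a * b * (z₀ * z₀)) := by rw [d.sq, mul_one]
        _ = φ x (a * z₀) * φ x (b * z₀) := by rw [← map_mul, mul_mul_mul_comm]
        _ = a' * b' * (z₀ * z₀) := by rw [← ea, ← eb, mul_mul_mul_comm]
        _ = a' * b' := by rw [d.sq, mul_one]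
    rw [e]
    exact mul_mem ha' hb') with h | h
  · obtain ⟨a, ha, ha1⟩ := d.exists_H
    rw [h] at ha
    exact ha1 (mem_bot.1 ha)
  · obtain ⟨z, hz, hz1⟩ := d.exists_Z
    exact hz1 (d.disj z (by rw [h]; exact mem_top z) hz)

theorem two_of_inside (h : ∀ g, im φ g Z = Z ∨ im φ g Z ≤ H) :
    (∃ g, im φ g Z = H) ∧ ∀ g, im φ g Z = Z ∨ im φ g Z = H := by
  obtain ⟨g₀, hg₀⟩ : ∃ g, im φ g Z ≠ Z := by
    by_contra hc
    push Not at hc
    rcases d.irr Z (fun g z hz => hc g ▸ apply_mem_im hz) with e | e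
    · exact d.Zne e
    · obtain ⟨a, ha, ha1⟩ := d.exists_H
      exact ha1 (d.disj a ha (by rw [e]; exact mem_top a))
  have hle := (h g₀).resolve_left hg₀
  obtain ⟨z, hz, hz1⟩ := d.exists_Z
  set v := φ g₀ z with hv
  have hv1 : v ≠ 1 := fun e => hz1 ((map_eq_one_iff _ (φ g₀).injective).1 e)
  have hvm : v ∈ im φ g₀ Z := apply_mem_im hz
  have heq : im φ g₀ Z = H := by
    by_contra hne
    obtain ⟨x, hx, hxn⟩ := SetLike.exists_of_lt (lt_of_le_of_ne hle hne)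
    have hout : ∀ y ∈ H, y ∉ im φ g₀ Z → y ∈ im φ g₀ H := by
      intro y hy hyn
      obtain ⟨j, hj⟩ := d.transH (hle hvm) hv1 hy (fun e => hyn (e ▸ one_mem _))
      have hy' : y ∈ im φ (r ^ j * g₀) Z := by rw [im_mul, ← hj]; exact apply_mem_im hvm
      rcases h (g₀⁻¹ * (r ^ j * g₀)) with e | e
      · refine absurd ?_ hyn
        have e' := congrArg (im φ g₀) e
        rw [← im_mul, mul_inv_cancel_left] at e'
        rwa [e'] at hy'
      · have e' := im_mono (φ := φ) g₀ e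
        rw [← im_mul, mul_inv_cancel_left] at e'
        exact e' hy'
    have hvH : v ∈ im φ g₀ H := by
      have h1 := hout x hx hxn
      have h2 := hout (v * x) (mul_mem (hle hvm) hx) (fun e => hxn ((mul_mem_cancel_left hvm).1 e))
      exact (mul_mem_cancel_right h1).1 h2
    obtain ⟨a, ha, e⟩ := hvH
    exact hz1 (d.disj z ((φ g₀).injective e ▸ ha) hz)
  refine ⟨⟨g₀, heq⟩, fun g => (em (im φ g Z = Z)).imp_right fun hg => ?_⟩
  have hl := (h g).resolve_left hg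
  rw [← heq] at hl ⊢
  exact d.im_eq_of_mem (v := φ g z) (fun e => hz1 ((map_eq_one_iff _ (φ g).injective).1 e))
    (apply_mem_im hz) (hl (apply_mem_im hz))

/-- The dichotomy. -/
theorem two_or_covers :
    ((∃ g, im φ g Z = H) ∧ ∀ g, im φ g Z = Z ∨ im φ g Z = H) ∨
      (Covers φ Z ∧ ∃ g, im φ g Z ≠ Z ∧ ¬ im φ g Z ≤ H) := by
  by_cases h : ∀ g, im φ g Z = Z ∨ im φ g Z ≤ H
  · exact .inl (d.two_of_inside h)
  · push Not at h
    obtain ⟨g, hg, hgH⟩ := h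
    exact .inr ⟨d.covers_of_outside hg hgH, g, hg, hgH⟩

end Pre

end Cfsg.Lib.Goldschmidt.Rlin
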