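import Mathlib.FieldTheory.Finite.Basic
import Mathlib.GroupTheory.PGroup
import Mathlib.RingTheory.IntegralDomain
import Mathlib.Algebra.Ring.Subring.Basic
import Mathlib.Algebra.CharP.Two
import Mathlib.Algebra.Algebra.ZMod

/-!
Commuting endomorphisms transitive on the nonzero vectors form the multiplicative group of a field, and the
endomorphisms fixing a vector and normalising them act as its automorphisms, so cyclically.
-/

set_option autoImplicit false
set_option linter.unusedSectionVars false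
set_option linter.style.haveILetI false

namespace Cfsg.Lib.Goldschmidt.Rlin

variable {M : Type*} [AddCommGroup M] [Finite M]

theorem commute_closure {C : Set (AddMonoid.End M)} (hcomm : ∀ c ∈ C, ∀ d ∈ C, c * d = d * c)
    {x y : AddMonoid.End M} (hx : x ∈ Subring.closure C) (hy : y ∈ Subring.closure C) : x * y = y * x := by
  induction hx using Subring.closure_induction with
  | mem x hx =>
    induction hy using Subring.closure_induction with
    | mem y hy => exact hcomm x hx y hy
    | zero => rw [mul_zero, zero_mul]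
    | one => rw [mul_one, one_mul]
    | add a b _ _ ha hb => rw [mul_add, add_mul, ha, hb]
    | neg a _ ha => exact (Commute.neg_right ha).eq
    | mul a b _ _ ha hb => exact (Commute.mul_right ha hb).eq
  | zero => rw [mul_zero, zero_mul]
  | one => rw [mul_one, one_mul]
  | add a b _ _ ha hb => rw [mul_add, add_mul, ha, hb]
  | neg a _ ha => exact (Commute.neg_left ha).eq
  | mul a b _ _ ha hb => exact (Commute.mul_left ha hb).eq

section Field

variable {C : Set (AddMonoid.End M)} {v₀ : M} (hv₀ : v₀ ≠ 0) (hcomm : ∀ c ∈ C, ∀ d ∈ C, c * d = d * c)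
  (htr : ∀ v w : M, v ≠ 0 → w ≠ 0 → ∃ c ∈ C, c v = w)
include hcomm htr

theorem closure_eq_zero {k : AddMonoid.End M} (hk : k ∈ Subring.closure C) {v : M} (hv : v ≠ 0) (h : k v = 0) :
    k = 0 := by
  refine AddMonoidHom.ext fun w => ?_
  rcases eq_or_ne w 0 with rfl | hw
  · exact (map_zero k).trans rfl
  obtain ⟨c, hc, rfl⟩ := htr v w hv hw
  have e := congrArg (fun f : AddMonoid.End M => f v) (commute_closure hcomm hk (Subring.subset_closure hc))
  show k (c v) = 0
  exact e.trans (show c (k v) = 0 by rw [h, map_zero])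

include hv₀

theorem eq_of_ne_zero {k : AddMonoid.End M} (hk : k ∈ Subring.closure C) (h : k ≠ 0) : k ∈ C := by
  obtain ⟨c, hc, e⟩ := htr v₀ (k v₀) hv₀ (fun e => h (closure_eq_zero hcomm htr hk hv₀ e))
  rwa [show k = c from sub_eq_zero.1 (closure_eq_zero hcomm htr (sub_mem hk (Subring.subset_closure hc)) hv₀
    (show k v₀ - c v₀ = 0 by rw [e, sub_self]))]

theorem closure_isField : IsField (Subring.closure C) where
  exists_pair_ne := ⟨0, 1, fun h => hv₀ (congrArg (fun k : Subring.closure C => (k : AddMonoid.End M) v₀) h).symm⟩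
  mul_comm := fun x y => Subtype.ext (commute_closure hcomm x.2 y.2)
  mul_inv_cancel := fun {k} hk => by
    haveI : Finite (AddMonoid.End M) := Finite.of_injective (fun x : AddMonoid.End M => (x : M → M)) DFunLike.coe_injective
    have hk' : (k : AddMonoid.End M) ≠ 0 := fun e => hk (Subtype.ext e)
    have hkv : (k : AddMonoid.End M) v₀ ≠ 0 := fun e => hk' (closure_eq_zero hcomm htr k.2 hv₀ e)
    have hinj : Function.Injective fun l : Subring.closure C => k * l := by
      intro l m e
      refine Subtype.ext (sub_eq_zero.1 (closure_eq_zero hcomm htr (sub_mem l.2 m.2) hkv ?_))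
      have e' : (k : AddMonoid.End M) * l = k * m := congrArg Subtype.val e
      have h1 := congrArg (fun f : AddMonoid.End M => f v₀) (commute_closure hcomm (sub_mem l.2 m.2) k.2)
      refine h1.trans ?_
      show ((k : AddMonoid.End M) * ((l : AddMonoid.End M) - m)) v₀ = 0
      rw [mul_sub, e', sub_self]; rfl
    exact (Finite.injective_iff_surjective.1 hinj) 1

/-- The generating element. -/
theorem exists_gen : ∃ c₀ ∈ C, ∀ c ∈ C, c ≠ 0 → ∃ i : ℕ, c₀ ^ i = c := by
  haveI : Finite (AddMonoid.End M) := Finite.of_injective (fun x : AddMonoid.End M => (x : M → M)) DFunLike.coe_injective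
  letI : Field (Subring.closure C) := (closure_isField hv₀ hcomm htr).toField
  obtain ⟨u, hu⟩ := IsCyclic.exists_generator (α := (Subring.closure C)ˣ)
  refine ⟨((u : Subring.closure C) : AddMonoid.End M), eq_of_ne_zero hv₀ hcomm htr (u : Subring.closure C).2
    (fun e => u.ne_zero (Subtype.ext e)), fun c hc hc0 => ?_⟩
  obtain ⟨i, hi⟩ := (Submonoid.mem_powers_iff _ _).1 (mem_powers_iff_mem_zpowers.2
    (hu (Units.mk0 (⟨c, Subring.subset_closure hc⟩ : Subring.closure C) fun e => hc0 (congrArg Subtype.val e))))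
  exact ⟨i, by simpa using congrArg (fun x : (Subring.closure C)ˣ => ((x : Subring.closure C) : AddMonoid.End M)) hi⟩

variable {Q : Type*} [Group Q] [Finite Q] (ρ : Q →* AddMonoid.End M)

/-- The stabiliser of a vector in the normaliser induces a cyclic group. -/
theorem stab_cyclic (h2 : ∀ v : M, v + v = 0) (hn : ∀ q : Q, ∀ c ∈ C, ∃ d ∈ C, ρ q * c = d * ρ q)
    (hfix : ∀ q : Q, ρ q v₀ = v₀) : ∃ q₀ : Q, ∀ q : Q, ∃ i : ℕ, ρ q = ρ (q₀ ^ i) := by
  classical
  haveI : Finite (AddMonoid.End M) := Finite.of_injective (fun x : AddMonoid.End M => (x : M → M)) DFunLike.coe_injective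
  set K := Subring.closure C
  letI : Field K := (closure_isField hv₀ hcomm htr).toField
  have hinv : ∀ q : Q, ρ q⁻¹ * ρ q = 1 := fun q => by rw [← map_mul, inv_mul_cancel, map_one]
  have hinv' : ∀ q : Q, ρ q * ρ q⁻¹ = 1 := fun q => by rw [← map_mul, mul_inv_cancel, map_one]
  have hmem : ∀ q : Q, ∀ x ∈ K, ρ q * x * ρ q⁻¹ ∈ K := by
    intro q x hx
    induction hx using Subring.closure_induction with
    | mem c hc =>
      obtain ⟨d, hd, e⟩ := hn q c hc
      rw [e, mul_assoc, hinv', mul_one]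
      exact Subring.subset_closure hd
    | zero => rw [mul_zero, zero_mul]; exact zero_mem _
    | one => rw [mul_one, hinv']; exact one_mem _
    | add a b _ _ ha hb => rw [mul_add, add_mul]; exact add_mem ha hb
    | neg a _ ha => rw [mul_neg, neg_mul]; exact neg_mem ha
    | mul a b _ _ ha hb =>
      rw [show ρ q * (a * b) * ρ q⁻¹ = (ρ q * a * ρ q⁻¹) * (ρ q * b * ρ q⁻¹) by
        simp only [mul_assoc]; rw [← mul_assoc (ρ q⁻¹) (ρ q), hinv, one_mul]]
      exact mul_mem ha hb
  let σ : Q → K ≃+* K := fun q =>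
    { toFun := fun x => ⟨ρ q * x * ρ q⁻¹, hmem q x x.2⟩
      invFun := fun x => ⟨ρ q⁻¹ * x * ρ q, by simpa using hmem q⁻¹ x x.2⟩
      left_inv := fun x => Subtype.ext (by
        show ρ q⁻¹ * (ρ q * x * ρ q⁻¹) * ρ q = x
        simp only [mul_assoc, hinv]
        rw [mul_one, ← mul_assoc, hinv, one_mul])
      right_inv := fun x => Subtype.ext (by
        show ρ q * (ρ q⁻¹ * x * ρ q) * ρ q⁻¹ = x
        simp only [mul_assoc, hinv']
        rw [mul_one, ← mul_assoc, hinv', one_mul])
      map_mul' := fun x y => Subtype.ext (by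
        show ρ q * ((x : AddMonoid.End M) * y) * ρ q⁻¹ = (ρ q * x * ρ q⁻¹) * (ρ q * y * ρ q⁻¹)
        simp only [mul_assoc]; rw [← mul_assoc (ρ q⁻¹) (ρ q), hinv, one_mul])
      map_add' := fun x y => Subtype.ext (by
        show ρ q * ((x : AddMonoid.End M) + y) * ρ q⁻¹ = ρ q * x * ρ q⁻¹ + ρ q * y * ρ q⁻¹
        rw [mul_add, add_mul]) }
  haveI : CharP K 2 := CharTwo.of_one_ne_zero_of_two_eq_zero one_ne_zero (by
    rw [← one_add_one_eq_two]; exact Subtype.ext (AddMonoidHom.ext fun v => h2 v))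
  letI : Algebra (ZMod 2) K := ZMod.algebra K 2
  haveI : Fact (Nat.Prime 2) := ⟨Nat.prime_two⟩
  let τ : Q →* (K ≃ₐ[ZMod 2] K) :=
    { toFun := fun q => AlgEquiv.ofRingEquiv (f := σ q) fun a => RingHom.congr_fun
        (RingHom.ext_zmod ((σ q).toRingHom.comp (algebraMap (ZMod 2) K)) (algebraMap (ZMod 2) K)) a
      map_one' := AlgEquiv.ext fun x => Subtype.ext (by
        show ρ 1 * x * ρ 1⁻¹ = x
        rw [inv_one, map_one, one_mul, mul_one])
      map_mul' := fun a b => AlgEquiv.ext fun x => Subtype.ext (by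
        show ρ (a * b) * x * ρ (a * b)⁻¹ = ρ a * (ρ b * x * ρ b⁻¹) * ρ a⁻¹
        rw [mul_inv_rev, map_mul, map_mul]; simp only [mul_assoc]) }
  haveI : Finite K := Subtype.finite
  obtain ⟨⟨g, q₀, rfl⟩, hg⟩ := IsCyclic.exists_generator (α := τ.range)
  refine ⟨q₀, fun q => ?_⟩
  obtain ⟨i, hi⟩ := (Submonoid.mem_powers_iff _ _).1 (mem_powers_iff_mem_zpowers.2 (hg ⟨τ q, q, rfl⟩))
  refine ⟨i, AddMonoidHom.ext fun v => ?_⟩
  have he : τ (q⁻¹ * q₀ ^ i) = 1 := by
    rw [map_mul, map_inv, map_pow, inv_mul_eq_one]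
    exact (congrArg Subtype.val hi).symm
  set p := q⁻¹ * q₀ ^ i with hp
  have hpv : ρ p v = v := by
    rcases eq_or_ne v 0 with rfl | hv
    · exact map_zero _
    obtain ⟨c, hc, rfl⟩ := htr v₀ v hv₀ hv
    have e1 : ρ p * c * ρ p⁻¹ = c :=
      congrArg (fun f : K ≃ₐ[ZMod 2] K => ((f ⟨c, Subring.subset_closure hc⟩ : K) : AddMonoid.End M)) he
    have e2 : ρ p * c = c * ρ p := by
      conv_rhs => rw [← e1]
      rw [mul_assoc _ (ρ p⁻¹), hinv, mul_one]
    show (ρ p * c) v₀ = c v₀
    rw [e2]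
    show c (ρ p v₀) = c v₀
    rw [hfix]
  show ρ q v = ρ (q₀ ^ i) v
  rw [show q₀ ^ i = q * p by rw [hp, mul_inv_cancel_left], map_mul]
  show ρ q v = ρ q (ρ p v)
  rw [hpv]

end Field

end Cfsg.Lib.Goldschmidt.Rlin
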