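import Cfsg.Agent.Goldschmidt.Rlin.Odd
import Mathlib.Algebra.BigOperators.Ring.Finset
import Mathlib.Combinatorics.Enumerative.DoubleCounting

/-!
A covering orbit of subgroups of order at least four is impossible: a double count of pairs of points.
-/

set_option autoImplicit false
set_option linter.unusedSectionVars false
set_option linter.style.haveILetI false

namespace Cfsg.Lib.Goldschmidt.Rlin

open Subgroup

variable {R V : Type*} [Group R] [Finite R] [CommGroup V] [Finite V] {φ : R →* MulAut V} {r : R}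
  {H Z : Subgroup V} {n : ℕ}

/-- `w` lies in the complement attached to the conjugate containing `v` -/
def Rel (φ : R →* MulAut V) (H Z : Subgroup V) (v w : V) : Prop :=
  v ≠ 1 ∧ w ≠ 1 ∧ ∃ g, v ∈ im φ g Z ∧ w ∈ im φ g H

theorem apply_ne_one {g : R} {v : V} (h : v ≠ 1) : φ g v ≠ 1 := fun e =>
  h ((map_eq_one_iff _ (φ g).injective).1 e)

theorem rel_apply {v w : V} (h : Rel φ H Z v w) (x : R) : Rel φ H Z (φ x v) (φ x w) := by
  obtain ⟨hv, hw, g, h1, h2⟩ := h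
  refine ⟨apply_ne_one hv, apply_ne_one hw, x * g, ?_, ?_⟩ <;> rw [im_mul]
  · exact apply_mem_im h1
  · exact apply_mem_im h2

theorem stab_pow {g : R} {U : Subgroup V} (h : im φ g U = U) : ∀ j : ℕ, im φ (g ^ j) U = U := by
  intro j
  induction j with
  | zero => rw [pow_zero, im_one]
  | succ j ih => rw [pow_succ, im_mul, h, ih]

namespace Hyp

variable (d : Hyp φ r H Z n)
include d

theorem inside_pow {g : R} (h : im φ g Z ≤ H) (j : ℕ) : im φ (r ^ j * g) Z ≤ H := by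
  rw [im_mul]
  rintro _ ⟨u, hu, rfl⟩
  exact d.pow_H j u (h hu)

theorem ne_of_inside {g : R} (h : im φ g Z ≤ H) : im φ g Z ≠ Z := fun e => by
  obtain ⟨z, hz, hz1⟩ := d.exists_Z
  exact hz1 (d.disj z (h (by rw [e]; exact hz)) hz)

theorem inside_orbit {g g' : R} (h : im φ g Z ≤ H) (h' : im φ g' Z ≤ H) :
    ∃ j, im φ (r ^ j * g) Z = im φ g' Z := by
  obtain ⟨z, hz, hz1⟩ := d.exists_Z
  obtain ⟨j, hj⟩ := d.transH (h (apply_mem_im hz)) (apply_ne_one hz1) (h' (apply_mem_im hz)) (apply_ne_one hz1)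
  refine ⟨j, d.im_eq_of_mem (apply_ne_one hz1) ?_ (apply_mem_im (φ := φ) (g := g') hz)⟩
  rw [im_mul, ← hj]
  exact apply_mem_im (apply_mem_im hz)

theorem no_swap {R₀ : Subgroup R} (hodd : Odd (Nat.card R₀)) (hr : r ∈ R₀) {x : R} (hx : x ∈ R₀)
    (h : im φ x Z ≤ H) (h' : im φ x⁻¹ Z ≤ H) : False := by
  obtain ⟨j, hj⟩ := d.inside_orbit h h'
  set g := x * r ^ j with hg
  have h1 : im φ g Z = im φ x Z := by rw [hg, im_mul, d.im_pow_Z]
  have h2 : im φ (g * g) Z = Z := by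
    rw [show g * g = x * (r ^ j * g) from mul_assoc x (r ^ j) g, im_mul, im_mul (r ^ j), h1, ← im_mul (r ^ j), hj,
      ← im_mul, mul_inv_cancel, im_one]
  have hgo : Odd (orderOf g) := Odd.of_dvd_nat hodd (orderOf_dvd_natCard _ (mul_mem hx (pow_mem hr j)))
  obtain ⟨o, ho⟩ := hgo
  have h3 : g = (g * g) ^ (o + 1) := by
    conv_rhs => rw [← pow_two, ← pow_mul, show 2 * (o + 1) = orderOf g + 1 by omega, pow_succ, pow_orderOf_eq_one, one_mul]
  refine d.ne_of_inside h ?_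
  rw [← h1, h3]
  exact stab_pow h2 (o + 1)

theorem outside_orbit (hZ : 3 ≤ Nat.card Z) {g g' : R} (hg : im φ g Z ≠ Z) (hgH : ¬ im φ g Z ≤ H)
    (hg' : im φ g' Z ≠ Z) (hgH' : ¬ im φ g' Z ≤ H) : ∃ j, im φ (r ^ j * g) Z = im φ g' Z := by
  classical
  by_contra hc
  push Not at hc
  obtain ⟨z₀, hz₀, hC⟩ := d.coset hg hgH
  have hsub : orb φ r g' Z ⊆ (fun x => x * z₀) '' ((H : Set V) \ {1}) := by
    intro v hv
    obtain ⟨h, hh, h1, e⟩ := (hC v).1 ⟨d.orb_disj hg' hv, fun ⟨_, i, hi⟩ => by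
      obtain ⟨hv1, l, hl⟩ := hv
      refine hc (l * (orderOf r - 1) + i) ?_
      have e := congrArg (im φ ((r ^ l)⁻¹)) (d.im_eq_of_mem hv1 hi hl)
      rw [← im_mul, ← im_mul, inv_mul_cancel_left, ← mul_assoc] at e
      rw [← e]
      congr 2
      rw [eq_inv_mul_iff_mul_eq, ← pow_add]
      have hpos := orderOf_pos r
      obtain ⟨o, ho⟩ : ∃ o, orderOf r = o + 1 := ⟨orderOf r - 1, by omega⟩
      rw [ho, Nat.add_sub_cancel, show l + (l * o + i) = (o + 1) * l + i by ring, pow_add, pow_mul, ← ho,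
        pow_orderOf_eq_one, one_pow, one_mul]⟩
    exact ⟨h, ⟨hh, h1⟩, e⟩
  have hle := Set.ncard_le_ncard hsub (Set.toFinite _)
  rw [d.card_orb hg' hgH', Set.ncard_image_of_injective _ (mul_left_injective z₀),
    Set.ncard_sdiff_singleton_of_mem (one_mem H), ← Nat.card_coe_set_eq] at hle
  have hH : Nat.card ↥(H : Set V) = 2 ^ n := d.cardH
  rw [hH] at hle
  have h1 : (2 ^ n - 1) * 2 ≤ (2 ^ n - 1) * (Nat.card Z - 1) := Nat.mul_le_mul_left _ (by omega)
  have := d.one_lt_pow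
  omega

theorem exists_inside (hZ : 3 ≤ Nat.card Z) (hcov : Covers φ Z) {g : R} (hg : im φ g Z ≠ Z)
    (hgH : ¬ im φ g Z ≤ H) : ∃ x, im φ x Z ≤ H := by
  obtain ⟨z₀, hz₀, hC⟩ := d.coset hg hgH
  obtain ⟨h, hh, h1⟩ := d.exists_H
  obtain ⟨hvZ, hvo⟩ := (hC (h * z₀)).2 ⟨h, hh, h1, rfl⟩
  obtain ⟨g', hg'⟩ := hcov (h * z₀)
  refine ⟨g', ?_⟩
  by_contra hgH'
  obtain ⟨j, hj⟩ := d.outside_orbit hZ hg hgH (fun e => hvZ (e ▸ hg')) hgH'
  exact hvo ⟨fun e => hvZ (by rw [e]; exact one_mem Z), j, hj.symm ▸ hg'⟩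

theorem inside_of_mem {x₀ : R} (hx₀ : im φ x₀ Z ≤ H) {g : R} {h : V} (hh : h ∈ H) (h1 : h ≠ 1)
    (hg : h ∈ im φ g Z) : im φ g Z ≤ H := by
  obtain ⟨z, hz, hz1⟩ := d.exists_Z
  obtain ⟨j, hj⟩ := d.transH (hx₀ (apply_mem_im hz)) (apply_ne_one hz1) hh h1
  rw [d.im_eq_of_mem h1 hg (g' := r ^ j * x₀) (by rw [im_mul, ← hj]; exact apply_mem_im (apply_mem_im hz))]
  exact d.inside_pow hx₀ j

theorem not_covers_large (hZ : 3 ≤ Nat.card Z) (hcov : Covers φ Z) {g₁ : R} (hg₁ : im φ g₁ Z ≠ Z)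
    (hgH₁ : ¬ im φ g₁ Z ≤ H) {R₀ : Subgroup R} (hodd : Odd (Nat.card R₀)) (hr : r ∈ R₀)
    (htr : ∀ g, ∃ x ∈ R₀, im φ x Z = im φ g Z) : False := by
  classical
  haveI := Fintype.ofFinite V
  obtain ⟨x₀, hx₀'⟩ := d.exists_inside hZ hcov hg₁ hgH₁
  obtain ⟨x, hx, hxe⟩ := htr x₀
  have hxH : im φ x Z ≤ H := hxe ▸ hx₀'
  have hrow : ∀ v : V, v ≠ 1 → {w | Rel φ H Z v w}.ncard = 2 ^ n - 1 := by
    intro v hv
    obtain ⟨g, hg⟩ := hcov v
    have e : {w | Rel φ H Z v w} = ((im φ g H : Subgroup V) : Set V) \ {1} := by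
      ext w
      constructor
      · rintro ⟨-, hw, g', h1, h2⟩
        exact ⟨by rwa [d.im_H_congr (d.im_eq_of_mem hv h1 hg)] at h2, hw⟩
      · rintro ⟨h2, hw⟩
        exact ⟨hv, hw, g, hg, h2⟩
    rw [e, Set.ncard_sdiff_singleton_of_mem (one_mem (im φ g H)), ← Nat.card_coe_set_eq]
    exact congrArg (· - 1) ((card_im g H).trans d.cardH)
  have hcol : ∀ z ∈ Z, z ≠ 1 → {v | Rel φ H Z v z} = orb φ r g₁ Z := by
    intro z hz hz1
    ext v
    constructor
    · rintro ⟨hv, -, g, h1, h2⟩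
      have hgZ : im φ g Z ≠ Z := fun e => hz1 (d.disj z (by rwa [d.im_H e] at h2) hz)
      have hgH : ¬ im φ g Z ≤ H := by
        intro hin
        obtain ⟨y, hy, hye⟩ := htr g
        rw [← d.im_H_congr hye, mem_im] at h2
        exact d.no_swap hodd hr hy (hye ▸ hin)
          (d.inside_of_mem hxH h2 (apply_ne_one hz1) (apply_mem_im hz))
      obtain ⟨j, hj⟩ := d.outside_orbit hZ hg₁ hgH₁ hgZ hgH
      exact ⟨hv, j, hj.symm ▸ h1⟩
    · rintro ⟨hv, i, hi⟩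
      have hzx : z ∈ im φ x⁻¹ H := by
        rw [mem_im, inv_inv]; exact hxH (apply_mem_im hz)
      have hxZ : im φ x⁻¹ Z ≠ Z := fun e => d.ne_of_inside hxH (by
        have := im_inv_eq e; rwa [inv_inv] at this)
      obtain ⟨j, hj⟩ := d.outside_orbit hZ hg₁ hgH₁ hxZ fun h => d.no_swap hodd hr hx hxH h
      refine ⟨hv, hz1, r ^ (i + j * (orderOf r - 1)) * x⁻¹, ?_, ?_⟩
      · rw [im_mul (r ^ (i + j * (orderOf r - 1))), ← hj, ← im_mul, ← mul_assoc, ← pow_add]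
        have hpos := orderOf_pos r
        obtain ⟨o, ho⟩ : ∃ o, orderOf r = o + 1 := ⟨orderOf r - 1, by omega⟩
        rw [ho, Nat.add_sub_cancel, show i + j * o + j = i + (o + 1) * j by ring, pow_add, pow_mul, ← ho,
          pow_orderOf_eq_one, one_pow, mul_one]
        exact hi
      · rw [im_mul, ← d.pow_fix (i + j * (orderOf r - 1)) hz]
        exact apply_mem_im hzx
  have hcol' : ∀ w : V, w ≠ 1 → {v | Rel φ H Z v w}.ncard = (2 ^ n - 1) * (Nat.card Z - 1) := by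
    intro w hw
    obtain ⟨g, hg⟩ := hcov w
    obtain ⟨z, hz, rfl⟩ := hg
    have hz1 : z ≠ 1 := fun e => hw (by rw [e, map_one])
    have e : {v | Rel φ H Z v (φ g z)} = φ g '' {v | Rel φ H Z v z} := by
      ext v
      constructor
      · intro h
        refine ⟨φ g⁻¹ v, ?_, ?_⟩
        · have := rel_apply h g⁻¹
          rwa [← MulAut.mul_apply V (φ g⁻¹) (φ g) z, ← map_mul φ g⁻¹ g, inv_mul_cancel, map_one, MulAut.one_apply] at this
        · rw [← MulAut.mul_apply, ← map_mul, mul_inv_cancel, map_one, MulAut.one_apply]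
      · rintro ⟨u, hu, rfl⟩
        exact rel_apply hu g
    show {v | Rel φ H Z v (φ g z)}.ncard = _
    rw [e, Set.ncard_image_of_injective _ (φ g).injective, hcol z hz hz1, d.card_orb hg₁ hgH₁]
  set s : Finset V := Finset.univ.filter (fun v => v ≠ 1) with hs
  have key := Finset.sum_card_bipartiteAbove_eq_sum_card_bipartiteBelow (Rel φ H Z) (s := s) (t := s)
  have e1 : ∀ v ∈ s, (Finset.bipartiteAbove (Rel φ H Z) s v).card = 2 ^ n - 1 := by
    intro v hv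
    rw [← hrow v (Finset.mem_filter.1 hv).2, ← Set.ncard_coe_finset]
    congr 1
    ext w
    simp only [Finset.mem_coe, Finset.mem_bipartiteAbove, hs, Finset.mem_filter, Finset.mem_univ, true_and,
      Set.mem_ofPred_eq]
    exact ⟨fun h => h.2, fun h => ⟨h.2.1, h⟩⟩
  have e2 : ∀ w ∈ s, (Finset.bipartiteBelow (Rel φ H Z) s w).card = (2 ^ n - 1) * (Nat.card Z - 1) := by
    intro w hw
    rw [← hcol' w (Finset.mem_filter.1 hw).2, ← Set.ncard_coe_finset]
    congr 1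
    ext v
    simp only [Finset.mem_coe, Finset.mem_bipartiteBelow, hs, Finset.mem_filter, Finset.mem_univ, true_and,
      Set.mem_ofPred_eq]
    exact ⟨fun h => h.2, fun h => ⟨h.1, h⟩⟩
  rw [Finset.sum_congr rfl e1, Finset.sum_congr rfl e2, Finset.sum_const, Finset.sum_const, smul_eq_mul,
    smul_eq_mul] at key
  obtain ⟨h, hh, h1⟩ := d.exists_H
  have hspos : 0 < s.card := Finset.card_pos.2 ⟨h, Finset.mem_filter.2 ⟨Finset.mem_univ h, h1⟩⟩
  have key' := Nat.eq_of_mul_eq_mul_left hspos key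
  have h2 : (2 ^ n - 1) * 2 ≤ (2 ^ n - 1) * (Nat.card Z - 1) := Nat.mul_le_mul_left _ (by omega)
  have := d.one_lt_pow
  omega

end Hyp

end Cfsg.Lib.Goldschmidt.Rlin
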