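import Cfsg.Agent.Goldschmidt.Rlin.Odd
import Cfsg.Agent.Walter.OddLinear
import Mathlib.GroupTheory.GroupAction.Quotient
import Mathlib.GroupTheory.Perm.Cycle.Type

/-!
A covering orbit of subgroups of order two: the rank is three and the group has odd order.
-/

set_option autoImplicit false
set_option linter.unusedSectionVars false
set_option linter.style.haveILetI false

namespace Cfsg.Lib.Goldschmidt.Rlin

open Subgroup

variable {R V : Type*} [Group R] [Finite R] [CommGroup V] [Finite V] {φ : R →* MulAut V} {r : R}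
  {H Z : Subgroup V} {n : ℕ}

namespace Hyp

variable (d : Hyp φ r H Z n)
include d

theorem seven (hZ : Nat.card Z = 2) (hcov : Covers φ Z) :
    n = 2 ∧ Nat.card V = 2 ^ 3 ∧ Odd (Nat.card R) ∧ ∀ v w : V, v ≠ 1 → w ≠ 1 → ∃ g, φ g v = w := by
  classical
  obtain ⟨a, ha, ha1⟩ := d.exists_Z
  have hZa : ∀ z ∈ Z, z ≠ 1 → z = a := by
    intro z hz hz1
    by_contra hne
    have h3 : ({1, a, z} : Set V).ncard = 3 := Set.ncard_eq_three.2 ⟨1, a, z, Ne.symm ha1, Ne.symm hz1, Ne.symm hne, rfl⟩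
    have := Set.ncard_le_ncard (show ({1, a, z} : Set V) ⊆ Z by
      rintro x (rfl | rfl | rfl) <;> first | exact one_mem Z | assumption) (Set.toFinite _)
    rw [h3, ← Nat.card_coe_set_eq] at this
    exact absurd (this.trans (le_of_eq hZ)) (by omega)
  obtain ⟨R₀, hn₀, hodd, hr, htr⟩ := d.exists_odd_normal hcov
  have htrans : ∀ v : V, v ≠ 1 → ∃ x ∈ R₀, φ x a = v := by
    intro v hv
    obtain ⟨g, hg⟩ := hcov v
    obtain ⟨x, hx, e⟩ := htr g
    rw [← e] at hg
    obtain ⟨z, hz, rfl⟩ := hg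
    exact ⟨x, hx, by rw [← hZa z hz (fun e => hv (by rw [e, map_one]))]; rfl⟩
  have hr' : orderOf (⟨r, hr⟩ : R₀) = 2 ^ n - 1 := by rw [Subgroup.orderOf_mk]; exact d.hr
  have hV : Nat.card V = 2 ^ (n + 1) := by rw [d.card_V, hZ, pow_succ]
  obtain ⟨hn, hm⟩ : n = 2 ∧ n + 1 = 3 := by
    refine (Cfsg.Lib.Walter.odd_linear hodd (fun v => by rw [pow_two]; exact d.sq v) (φ.comp R₀.subtype)
      (d.inj.comp R₀.subtype_injective) ?_ d.hn (Nat.lt_succ_self n) hV ⟨r, hr⟩ hr' Z ?_ ?_).resolve_right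
      (by have := d.hn; omega)
    · intro U hU
      rcases eq_or_ne U ⊥ with h | h
      · exact .inl h
      refine .inr ((eq_top_iff' U).2 fun v => ?_)
      obtain ⟨⟨u, hu⟩, hu1⟩ := Subgroup.ne_bot_iff_exists_ne_one.1 h
      obtain ⟨y, hy, rfl⟩ := htrans u (fun e => hu1 (Subtype.ext e))
      rcases eq_or_ne v 1 with rfl | hv
      · exact one_mem U
      obtain ⟨x, hx, rfl⟩ := htrans v hv
      have := hU ⟨x * y⁻¹, mul_mem hx (inv_mem hy)⟩ _ hu
      change φ (x * y⁻¹) (φ y a) ∈ U at this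
      rwa [← MulAut.mul_apply, ← map_mul, inv_mul_cancel_right] at this
    · rw [hZ, show n + 1 - n = 1 by omega, pow_one]
    · intro k hk v
      exact d.fix k (fun e => hk (Subtype.ext (by rw [SubmonoidClass.coe_pow]; exact e))) v
  subst hn
  refine ⟨rfl, hV, ?_, fun v w hv hw => ?_⟩
  swap
  · obtain ⟨x, -, rfl⟩ := htrans v hv
    obtain ⟨y, -, rfl⟩ := htrans w hw
    exact ⟨y * x⁻¹, by rw [← MulAut.mul_apply, ← map_mul, inv_mul_cancel_right]⟩
  by_contra heven
  rw [Nat.not_odd_iff_even, even_iff_two_dvd] at heven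
  haveI : Fact (Nat.Prime 2) := ⟨Nat.prime_two⟩
  obtain ⟨P, b, hb, hb1, hfix, -⟩ := d.exists_sylow hcov
  obtain ⟨e, he⟩ := P.2.exists_card_eq
  obtain ⟨τ, hτ⟩ : ∃ τ : (P : Subgroup R), orderOf τ = 2 :=
    exists_prime_orderOf_dvd_card' 2 (P.dvd_card_of_dvd_card heven)
  have hτa : φ (τ : R) a = a := hZa b hb hb1 ▸ hfix τ τ.2
  have hτ2 : (τ : R) * τ = 1 := by
    have h := pow_orderOf_eq_one τ
    rw [hτ, pow_two] at h
    exact congrArg Subtype.val h
  have hτ1 : (τ : R) ≠ 1 := fun e => by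
    rw [orderOf_eq_one_iff.2 (Subtype.ext e : τ = 1)] at hτ; omega
  letI : MulAction R₀ V := MulAction.compHom V (φ.comp R₀.subtype)
  have horb : MulAction.orbit R₀ a = {(1 : V)}ᶜ := by
    ext v
    constructor
    · rintro ⟨x, rfl⟩
      exact fun e => ha1 ((map_eq_one_iff _ (φ (x : R)).injective).1 e)
    · intro hv
      obtain ⟨x, hx, rfl⟩ := htrans v hv
      exact ⟨⟨x, hx⟩, rfl⟩
  have h7 : (MulAction.stabilizer R₀ a).index = 7 := by
    rw [MulAction.index_stabilizer, horb, Set.ncard_compl, Set.ncard_singleton, hV]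
    norm_num
  set C := MulAction.stabilizer R₀ a with hC
  have hC6 : Nat.card C ∣ 6 := by
    have hCH : ∀ x : C, ∀ h ∈ H, φ ((x : R₀) : R) h ∈ H := fun x =>
      d.stabH _ (d.ti _ a ha ha1 (by rw [show φ ((x : R₀) : R) a = a from x.2]; exact ha))
    letI : MulAction C {h : H // h ≠ 1} :=
      { smul := fun x h => ⟨⟨φ ((x : R₀) : R) h.1, hCH x h.1 h.1.2⟩, fun e => h.2 (Subtype.ext
          ((map_eq_one_iff _ (φ ((x : R₀) : R)).injective).1 (congrArg Subtype.val e)))⟩
        one_smul := fun h => Subtype.ext (Subtype.ext (by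
          show φ (((1 : C) : R₀) : R) h.1 = h.1
          rw [OneMemClass.coe_one, OneMemClass.coe_one, map_one, MulAut.one_apply]))
        mul_smul := fun x y h => Subtype.ext (Subtype.ext (by
          show φ (((x * y : C) : R₀) : R) h.1 = φ ((x : R₀) : R) (φ ((y : R₀) : R) h.1)
          rw [MulMemClass.coe_mul, MulMemClass.coe_mul, map_mul, MulAut.mul_apply])) }
    have hinj : Function.Injective (MulAction.toPermHom C {h : H // h ≠ 1}) := by
      refine (MonoidHom.ker_eq_bot_iff _).1 (eq_bot_iff.2 fun x hx => ?_)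
      refine mem_bot.2 (Subtype.ext (Subtype.ext (d.inj (MulEquiv.ext fun v => ?_))))
      rw [show (((1 : C) : R₀) : R) = 1 from rfl, map_one, MulAut.one_apply]
      obtain ⟨h, hh, z, hz, rfl⟩ := d.sup v
      have e1 : φ ((x : R₀) : R) h = h := by
        rcases eq_or_ne h 1 with rfl | h1
        · rw [map_one]
        exact congrArg (fun w : {h : H // h ≠ 1} => ((w : H) : V))
          (Equiv.ext_iff.1 hx ⟨⟨h, hh⟩, fun e => h1 (congrArg Subtype.val e)⟩)
      have e2 : φ ((x : R₀) : R) z = z := by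
        rcases eq_or_ne z 1 with rfl | h1
        · rw [map_one]
        · rw [hZa z hz h1]; exact x.2
      rw [map_mul, e1, e2]
    have := Subgroup.card_dvd_of_injective _ hinj
    rwa [Nat.card_perm, show Nat.card {h : H // h ≠ 1} = 3 by
      haveI := Fintype.ofFinite H
      rw [Nat.card_eq_fintype_card, Fintype.card_subtype_compl, Fintype.card_subtype_eq,
        ← Nat.card_eq_fintype_card, d.cardH]; rfl] at this
  have hcard : Nat.card R₀ = Nat.card C * 7 := by rw [← h7, card_mul_index]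
  haveI : Fact (Nat.Prime 7) := ⟨by norm_num⟩
  obtain ⟨s, hs⟩ := exists_prime_orderOf_dvd_card' (G := R₀) 7 (by rw [hcard]; exact dvd_mul_left 7 _)
  have hC3 : Nat.card R₀ ≤ 21 := by
    have hCodd : ¬ 2 ∣ Nat.card C := fun h => Nat.not_even_iff_odd.2 hodd
      (even_iff_two_dvd.2 (h.trans (card_subgroup_dvd_card C)))
    have := Nat.le_of_dvd (by norm_num) hC6
    rw [hcard]
    interval_cases Nat.card C <;> omega
  have hsC : ∀ j : ℕ, φ ((s ^ j : R₀) : R) a = a → s ^ j = 1 := by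
    intro j hj
    have h1 : orderOf (s ^ j) ∣ Nat.card C := by
      have h := orderOf_dvd_natCard (⟨s ^ j, hj⟩ : C)
      exact (dvd_of_eq (Subgroup.orderOf_coe (⟨s ^ j, hj⟩ : C))).trans h
    have h2 : orderOf (s ^ j) ∣ 7 := hs ▸ orderOf_pow_dvd j
    exact orderOf_eq_one_iff.1 (Nat.eq_one_of_dvd_coprimes (show Nat.Coprime 6 7 by norm_num) (h1.trans hC6) h2)
  have hmem : (⟨(τ : R) * (s : R) * (τ : R)⁻¹, hn₀.conj_mem _ s.2 _⟩ : R₀) ∈ zpowers s := by
    set t : R₀ := ⟨(τ : R) * (s : R) * (τ : R)⁻¹, hn₀.conj_mem _ s.2 _⟩ with ht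
    have ht7 : orderOf t = 7 := by
      rw [← hs, ← Subgroup.orderOf_coe t, ← Subgroup.orderOf_coe s]
      exact orderOf_injective (MulAut.conj (τ : R)).toMonoidHom (MulAut.conj (τ : R)).injective (s : R)
    by_contra hnot
    have hinj : Function.Injective (fun p : zpowers s × zpowers t => (p.1 : R₀) * p.2) := by
      intro p q e
      have e' : (q.1 : R₀)⁻¹ * p.1 = q.2 * (p.2 : R₀)⁻¹ := by
        rw [eq_mul_inv_iff_mul_eq, mul_assoc, show (p.1 : R₀) * p.2 = q.1 * q.2 from e, inv_mul_cancel_left]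
      have hm1 : (q.1 : R₀)⁻¹ * p.1 ∈ zpowers s := mul_mem (inv_mem q.1.2) p.1.2
      have hm2 : (q.1 : R₀)⁻¹ * p.1 ∈ zpowers t := e' ▸ mul_mem q.2.2 (inv_mem p.2.2)
      have h1 : (q.1 : R₀)⁻¹ * p.1 = 1 := by
        by_contra hne
        have hy : orderOf ((q.1 : R₀)⁻¹ * p.1) = 7 := by
          obtain ⟨i, hi⟩ := mem_zpowers_iff_mem_range_orderOf.1 hm1 |> Finset.mem_image.1
          have h2 : orderOf ((q.1 : R₀)⁻¹ * p.1) ∣ 7 := by rw [← hi.2, ← hs]; exact orderOf_pow_dvd i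
          exact ((Nat.dvd_prime (by norm_num)).1 h2).resolve_left fun h => hne (orderOf_eq_one_iff.1 h)
        have e1 : zpowers ((q.1 : R₀)⁻¹ * p.1) = zpowers t := eq_of_le_of_card_ge (zpowers_le.2 hm2)
          (by rw [Nat.card_zpowers, Nat.card_zpowers, hy, ht7])
        exact hnot (zpowers_le.2 hm1 (e1.symm.le (mem_zpowers t)))
      exact Prod.ext (Subtype.ext (inv_mul_eq_one.1 h1).symm)
        (Subtype.ext (mul_inv_eq_one.1 (e'.symm.trans h1)).symm)
    have := Nat.card_le_card_of_injective _ hinj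
    rw [Nat.card_prod, Nat.card_zpowers, Nat.card_zpowers, hs, ht7] at this
    omega
  obtain ⟨i, hi, hit⟩ : ∃ i < 7, s ^ i = (⟨(τ : R) * (s : R) * (τ : R)⁻¹, hn₀.conj_mem _ s.2 _⟩ : R₀) := by
    obtain ⟨i, hi, e⟩ := Finset.mem_image.1 (mem_zpowers_iff_mem_range_orderOf.1 hmem)
    exact ⟨i, hs ▸ Finset.mem_range.1 hi, e⟩
  have hconj : ∀ j : ℕ, (τ : R) * (s : R) ^ j * (τ : R)⁻¹ = (s : R) ^ (i * j) := by
    intro j
    rw [← conj_pow, pow_mul, ← show ((s ^ i : R₀) : R) = (τ : R) * (s : R) * (τ : R)⁻¹ from congrArg Subtype.val hit,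
      SubmonoidClass.coe_pow]
  have hinv : (τ : R)⁻¹ = τ := inv_eq_of_mul_eq_one_right hτ2
  have hii : (i * i) % 7 = 1 := by
    have e : (s : R) ^ (i * i) = (s : R) ^ 1 := by
      have h1 := hconj 1
      have h2 := hconj i
      rw [mul_one, pow_one] at h1
      rw [← h2, ← h1, hinv, pow_one]
      simp only [mul_assoc, hτ2, mul_one]
      rw [← mul_assoc, hτ2, one_mul]
    rw [pow_eq_pow_iff_modEq, Subgroup.orderOf_coe, hs] at e
    exact e
  have hact : ∀ j : ℕ, φ (τ : R) (φ ((s : R) ^ j) a) = φ ((s : R) ^ (i * j)) a := by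
    intro j
    conv_lhs => rw [← hτa]
    rw [← MulAut.mul_apply, ← map_mul, ← MulAut.mul_apply, ← map_mul, ← hconj, hinv]
  have hsurj : ∀ v : V, v ≠ 1 → ∃ j < 7, φ ((s : R) ^ j) a = v := by
    let f : Fin 7 → {v : V // v ≠ 1} := fun j =>
      ⟨φ ((s : R) ^ (j : ℕ)) a, fun e => ha1 ((map_eq_one_iff _ (φ ((s : R) ^ (j : ℕ))).injective).1 e)⟩
    have hf : Function.Injective f := by
      intro x y e
      wlog hxy : (x : ℕ) ≤ y generalizing x y
      · exact (this e.symm (le_of_not_ge hxy)).symm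
      have e' : φ ((s : R) ^ (x : ℕ)) a = φ ((s : R) ^ (y : ℕ)) a := congrArg Subtype.val e
      have h1 : φ ((s ^ ((y : ℕ) - x) : R₀) : R) a = a := by
        refine (φ ((s : R) ^ (x : ℕ))).injective ?_
        rw [SubmonoidClass.coe_pow, ← MulAut.mul_apply, ← map_mul, ← pow_add, Nat.add_sub_cancel' hxy, e']
      have h2 := orderOf_dvd_of_pow_eq_one (hsC _ h1)
      rw [hs] at h2
      rcases Nat.eq_zero_or_pos ((y : ℕ) - x) with h3 | h3
      · exact Fin.ext (by omega)
      · have := Nat.le_of_dvd h3 h2; omega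
    have hb := hf.bijective_of_nat_card_le (by
      haveI := Fintype.ofFinite V
      rw [Nat.card_eq_fintype_card, Fintype.card_subtype_compl, Fintype.card_subtype_eq, ← Nat.card_eq_fintype_card,
        hV, Nat.card_fin]; norm_num)
    intro v hv
    obtain ⟨j, hj⟩ := hb.2 ⟨v, hv⟩
    exact ⟨j, j.2, congrArg Subtype.val hj⟩
  have hcase : i = 1 ∨ i = 6 := by interval_cases i <;> omega
  rcases hcase with rfl | rfl
  · refine hτ1 (d.inj (MulEquiv.ext fun v => ?_))
    rw [map_one, MulAut.one_apply]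
    rcases eq_or_ne v 1 with rfl | hv
    · rw [map_one]
    · obtain ⟨j, -, rfl⟩ := hsurj v hv
      rw [hact, one_mul]
  · have hF : ∀ v ∈ fixedBy φ (τ : R), v = 1 ∨ v = a := by
      intro v hv
      refine or_iff_not_imp_left.2 fun hv1 => ?_
      obtain ⟨j, hj, rfl⟩ := hsurj v hv1
      have e : φ ((s : R) ^ (6 * j)) a = φ ((s : R) ^ j) a := (hact j).symm.trans (mem_fixedBy.1 hv)
      have h1 : φ ((s ^ (5 * j) : R₀) : R) a = a := by
        refine (φ ((s : R) ^ j)).injective ?_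
        rw [SubmonoidClass.coe_pow, ← MulAut.mul_apply, ← map_mul, ← pow_add, show j + 5 * j = 6 * j by ring, e]
      have h2 := orderOf_dvd_of_pow_eq_one (hsC _ h1)
      rw [hs] at h2
      obtain rfl : j = 0 := by interval_cases j <;> omega
      rw [pow_zero, map_one, MulAut.one_apply]
    let g : V →* V := (φ (τ : R)).toMonoidHom * (MonoidHom.id V)⁻¹
    have hker : g.ker = fixedBy φ (τ : R) := by
      ext v
      rw [MonoidHom.mem_ker, mem_fixedBy]
      exact mul_inv_eq_one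
    have hrange : g.range ≤ fixedBy φ (τ : R) := by
      rintro _ ⟨v, rfl⟩
      rw [mem_fixedBy]
      show φ (τ : R) (φ (τ : R) v * v⁻¹) = φ (τ : R) v * v⁻¹
      rw [map_mul, ← MulAut.mul_apply, ← map_mul, hτ2, map_one, MulAut.one_apply, map_inv,
        d.inv_self, d.inv_self, mul_comm]
    have hF2 : Nat.card ↥(fixedBy φ (τ : R)) ≤ 2 := by
      have h := Set.ncard_le_ncard (t := ({1, a} : Set V)) (s := (fixedBy φ (τ : R) : Set V))
        (fun v hv => hF v hv) (Set.toFinite _)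
      rw [Set.ncard_pair (Ne.symm ha1), ← Nat.card_coe_set_eq] at h
      exact h
    have h1 := card_mul_index g.ker
    rw [index_ker, hker, hV] at h1
    have h2 : Nat.card g.range ≤ 2 := le_trans (Nat.card_le_card_of_injective (Subgroup.inclusion hrange)
      (Subgroup.inclusion_injective hrange)) hF2
    have h3 := Nat.mul_le_mul hF2 h2
    rw [h1] at h3
    norm_num at h3

end Hyp

end Cfsg.Lib.Goldschmidt.Rlin
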