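import Cfsg.Agent.Goldschmidt.Rlin.Large
import Cfsg.Agent.Goldschmidt.Rlin.Seven

/-!
RLIN: an irreducible group with a TI subgroup fixed by a regular cyclic group has two such subgroups,
or the rank is three and the order is odd.
-/

set_option autoImplicit false
set_option linter.unusedSectionVars false
set_option linter.style.haveILetI false

namespace Cfsg.Lib.Goldschmidt.Rlin

variable {R V : Type*} [Group R] [Finite R] [CommGroup V] [Finite V] {φ : R →* MulAut V} {r : R}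
  {H Z : Subgroup V} {n : ℕ}

theorem rlin (d : Hyp φ r H Z n) :
    ((∃ g, im φ g Z = H) ∧ ∀ g, im φ g Z = Z ∨ im φ g Z = H) ∨
      (n = 2 ∧ Nat.card Z = 2 ∧ Nat.card V = 2 ^ 3 ∧ Odd (Nat.card R) ∧
        ∀ v w : V, v ≠ 1 → w ≠ 1 → ∃ g, φ g v = w) := by
  refine d.two_or_covers.imp_right fun ⟨hcov, g, hg, hgH⟩ => ?_
  have h2 : 2 ≤ Nat.card Z := by
    obtain ⟨z, hz, hz1⟩ := d.exists_Z
    haveI : Nontrivial Z := ⟨⟨⟨z, hz⟩, 1, fun e => hz1 (congrArg Subtype.val e)⟩⟩
    exact Finite.one_lt_card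
  have hZ : Nat.card Z = 2 := by
    by_contra hne
    obtain ⟨R₀, -, hodd, hr, htr⟩ := d.exists_odd_normal hcov
    exact d.not_covers_large (by omega) hcov hg hgH hodd hr htr
  obtain ⟨hn, hV, ho, ht⟩ := d.seven hZ hcov
  exact ⟨hn, hZ, hV, ho, ht⟩

end Cfsg.Lib.Goldschmidt.Rlin
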