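import Cfsg.Agent.Goldschmidt.Rlin.Cover
import Mathlib.GroupTheory.Transfer
import Mathlib.GroupTheory.Sylow

/-!
When the conjugates cover, a Sylow 2-subgroup is cyclic and a normal subgroup of odd order is transitive on them.
-/

set_option autoImplicit false
set_option linter.unusedSectionVars false
set_option linter.style.haveILetI false

namespace Cfsg.Lib.Goldschmidt.Rlin

open Subgroup

variable {R V : Type*} [Group R] [Finite R] [CommGroup V] [Finite V] {φ : R →* MulAut V} {r : R}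
  {H Z : Subgroup V} {n : ℕ}

/-- the fixed subgroup of an element -/
def fixedBy (φ : R →* MulAut V) (g : R) : Subgroup V :=
  (φ g).toMonoidHom.eqLocus (MonoidHom.id V)

theorem mem_fixedBy {g : R} {v : V} : v ∈ fixedBy φ g ↔ φ g v = v := Iff.rfl

theorem exists_common {U W : Subgroup V} (h : Nat.card V < Nat.card U * Nat.card W) :
    ∃ v ∈ U, v ∈ W ∧ v ≠ 1 := by
  by_contra hc
  push Not at hc
  refine absurd h (not_lt.2 ?_)
  rw [← Nat.card_prod]
  refine Nat.card_le_card_of_injective (fun p : U × W => (p.1 : V) * p.2) fun p q e => ?_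
  have e' : (p.1 : V) * p.2 = q.1 * q.2 := e
  have h1 : (q.1 : V)⁻¹ * p.1 = q.2 * (p.2 : V)⁻¹ := by
    rw [eq_mul_inv_iff_mul_eq, mul_assoc, e', inv_mul_cancel_left]
  have h2 := hc _ (mul_mem (inv_mem q.1.2) p.1.2) (h1 ▸ mul_mem q.2.2 (inv_mem p.2.2))
  exact Prod.ext (Subtype.ext (inv_mul_eq_one.1 h2).symm) (Subtype.ext (mul_inv_eq_one.1 (h1.symm.trans h2)).symm)

namespace Hyp

variable (d : Hyp φ r H Z n)
include d

theorem stab_of_fix {g : R} {b : V} (hb : b ∈ Z) (h1 : b ≠ 1) (h : φ g b = b) : im φ g Z = Z :=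
  im_eq_of_le (d.ti g b hb h1 (by rwa [h]))

theorem inv_trivial {t : R} {b : V} (hb : b ∈ Z) (hb1 : b ≠ 1) (htb : φ t b = b)
    (htH : ∀ h ∈ H, φ t h = h) (hcov : Covers φ Z) : t = 1 := by
  classical
  have hF : 2 * 2 ^ n ≤ Nat.card ↥(fixedBy φ t) := by
    have hbH : b ∉ H := fun e => hb1 (d.disj b e hb)
    have : Nat.card ↥(H : Subgroup V) * 2 ≤ Nat.card ↥(fixedBy φ t) := by
      rw [← Nat.card_fin 2, ← Nat.card_prod]
      refine Nat.card_le_card_of_injective (fun p : H × Fin 2 =>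
        (⟨p.1.1 * b ^ (p.2 : ℕ), mul_mem (mem_fixedBy.2 (htH _ p.1.2)) (pow_mem (mem_fixedBy.2 htb) _)⟩ :
          ↥(fixedBy φ t))) ?_
      rintro ⟨p, i⟩ ⟨q, j⟩ e
      have e' : (p : V) * b ^ (i : ℕ) = q * b ^ (j : ℕ) := congrArg Subtype.val e
      have hij : i = j := by
        fin_cases i <;> fin_cases j <;> first | rfl | (exfalso; simp only [pow_zero, pow_one, mul_one] at e')
        · exact hbH (by rw [show b = (q : V)⁻¹ * p by rw [e', inv_mul_cancel_left]]; exact mul_mem (inv_mem q.2) p.2)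
        · exact hbH (by rw [show b = (p : V)⁻¹ * q by rw [← e', inv_mul_cancel_left]]; exact mul_mem (inv_mem p.2) q.2)
      subst hij
      exact Prod.ext (Subtype.ext (mul_right_cancel e')) rfl
    rw [d.cardH] at this
    omega
  have hst : ∀ g, im φ (t * g) Z = im φ g Z := by
    intro g
    obtain ⟨v, hv, hvg, hv1⟩ := exists_common (U := fixedBy φ t) (W := im φ g Z) (by
      rw [card_im, d.card_V]
      exact Nat.mul_lt_mul_of_pos_right (lt_of_lt_of_le (by have := d.one_lt_pow; omega) hF) Nat.card_pos)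
    refine d.im_eq_of_mem hv1 ?_ hvg
    rw [im_mul, ← mem_fixedBy.1 hv]
    exact apply_mem_im hvg
  have htZ : ∀ z ∈ Z, φ t z ∈ Z := d.ti t b hb hb1 (by rwa [htb])
  have hout : ∀ v, v ∉ Z → φ t v = v := by
    intro v hv
    obtain ⟨g, hg⟩ := hcov v
    have hgZ : im φ g Z ≠ Z := fun e => hv (e ▸ hg)
    have h1 : φ t v * v⁻¹ ∈ im φ g Z := mul_mem (hst g ▸ (im_mul (φ := φ) t g Z).symm ▸ apply_mem_im hg) (inv_mem hg)
    obtain ⟨h, hh, z, hz, hhz⟩ := d.sup v
    have h2 : φ t v * v⁻¹ ∈ Z := by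
      rw [← hhz, map_mul, htH h hh, mul_inv, mul_mul_mul_comm, mul_inv_cancel, one_mul]
      exact mul_mem (htZ z hz) (inv_mem hz)
    by_contra hne
    exact d.not_mem_Z_of_im hgZ h1 (fun e => hne (mul_inv_eq_one.1 e)) h2
  refine d.inj (MulEquiv.ext fun v => ?_)
  rw [map_one, MulAut.one_apply]
  by_cases hv : v ∈ Z
  · obtain ⟨h, hh, hh1⟩ := d.exists_H
    have hvh : h * v ∉ Z := fun e => hh1 (d.disj h hh ((mul_mem_cancel_right hv).1 e))
    have := hout _ hvh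
    rw [map_mul, htH h hh] at this
    exact mul_left_cancel this
  · exact hout v hv

theorem exists_sylow (hcov : Covers φ Z) :
    ∃ (P : Sylow 2 R) (b : V), b ∈ Z ∧ b ≠ 1 ∧ (∀ g ∈ P, φ g b = b) ∧ IsCyclic (P : Subgroup R) := by
  classical
  haveI : Fact (Nat.Prime 2) := ⟨Nat.prime_two⟩
  obtain ⟨Q⟩ : Nonempty (Sylow 2 R) := inferInstance
  letI : MulAction (Q : Subgroup R) V := MulAction.compHom V (φ.comp (Q : Subgroup R).subtype)
  have h2 : 2 ∣ Nat.card V := by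
    rw [d.card_V]; exact Dvd.dvd.mul_right (dvd_pow_self 2 (by have := d.hn; omega)) _
  obtain ⟨v, hv, hv1⟩ := Q.2.exists_fixed_point_of_prime_dvd_card_of_fixed_point V h2
    (a := (1 : V)) (fun g => map_one (φ (g : R)))
  obtain ⟨g, hg⟩ := hcov v
  have hb : φ g⁻¹ v ∈ Z := mem_im.1 hg
  have hb1 : φ g⁻¹ v ≠ 1 := fun e => hv1 (((map_eq_one_iff _ (φ g⁻¹).injective).1 e).symm)
  set P := g⁻¹ • Q with hP
  have hfix : ∀ x ∈ P, φ x (φ g⁻¹ v) = φ g⁻¹ v := by
    rintro _ ⟨y, hy, rfl⟩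
    show φ (g⁻¹ * y * g⁻¹⁻¹) (φ g⁻¹ v) = φ g⁻¹ v
    have e : φ y v = v := hv ⟨y, hy⟩
    rw [inv_inv, ← MulAut.mul_apply, ← map_mul, mul_assoc, mul_inv_cancel, mul_one, map_mul, MulAut.mul_apply, e]
  refine ⟨P, φ g⁻¹ v, hb, hb1, hfix, ?_⟩
  ·
    obtain ⟨q, hq, hgen⟩ := d.cyc _ hb hb1 P P.2 hfix
    refine isCyclic_iff_exists_zpowers_eq_top.2 ⟨⟨q, hq⟩, eq_top_iff.2 fun x _ => ?_⟩
    obtain ⟨i, hi⟩ := hgen x x.2
    refine ⟨(i : ℤ), ?_⟩
    show (⟨q, hq⟩ : ↥(P : Subgroup R)) ^ (i : ℤ) = x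
    rw [zpow_natCast]
    by_contra hne
    let y : R := (q ^ i)⁻¹ * (x : R)
    have hyP : y ∈ P := mul_mem (inv_mem (pow_mem hq i)) x.2
    have hy1 : y ≠ 1 := fun e => hne (Subtype.ext (inv_mul_eq_one.1 e))
    have hyH : ∀ h ∈ H, φ y h = h := by
      intro h hh
      show φ ((q ^ i)⁻¹ * (x : R)) h = h
      rw [map_mul, MulAut.mul_apply, hi h hh, ← MulAut.mul_apply, ← map_mul, inv_mul_cancel, map_one,
        MulAut.one_apply]
    exact hy1 (d.inv_trivial hb hb1 (hfix y hyP) hyH hcov)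

/-- A normal subgroup of odd order, containing `r` and transitive on the conjugates. -/
theorem exists_odd_normal (hcov : Covers φ Z) :
    ∃ R₀ : Subgroup R, R₀.Normal ∧ Odd (Nat.card R₀) ∧ r ∈ R₀ ∧ ∀ g, ∃ x ∈ R₀, im φ x Z = im φ g Z := by
  classical
  haveI : Fact (Nat.Prime 2) := ⟨Nat.prime_two⟩
  have hrodd : Odd (orderOf r) := by
    rw [d.hr]
    exact Nat.Even.sub_odd (Nat.one_le_two_pow) ((Nat.even_pow' (by have := d.hn; omega)).2 even_two) odd_one
  by_cases h2 : Even (Nat.card R)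
  swap
  · exact ⟨⊤, inferInstance, by rw [Subgroup.card_top]; exact Nat.not_even_iff_odd.1 h2, mem_top r,
      fun g => ⟨g, mem_top g, rfl⟩⟩
  obtain ⟨P, b, hb, hb1, hfix, hcyc⟩ := d.exists_sylow hcov
  have hp : (Nat.card R).minFac = 2 := (Nat.minFac_eq_two_iff _).2 (even_iff_two_dvd.1 h2)
  set f := MonoidHom.transferSylow P (hcyc.normalizer_le_centralizer hp)
  have hcomp := hcyc.isComplement' hp
  refine ⟨f.ker, inferInstance, ?_, ?_, fun g => ?_⟩
  · exact Nat.not_even_iff_odd.1 fun h =>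
      MonoidHom.not_dvd_card_ker_transferSylow P (hcyc.normalizer_le_centralizer hp) (even_iff_two_dvd.1 h)
  · rw [MonoidHom.mem_ker]
    refine orderOf_eq_one_iff.1 (Nat.eq_one_of_dvd_coprimes ?_ (orderOf_map_dvd f r) (orderOf_dvd_natCard _))
    obtain ⟨e, he⟩ := P.2.exists_card_eq
    rw [he]
    exact Nat.Coprime.pow_right _ (Nat.coprime_two_right.2 hrodd)
  · obtain ⟨⟨x, q⟩, hxq⟩ := hcomp.2 g
    refine ⟨x, x.2, ?_⟩
    have hq : im φ (q : R) Z = Z := d.stab_of_fix hb hb1 (hfix q q.2)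
    rw [← hxq]
    show im φ (x : R) Z = im φ ((x : R) * (q : R)) Z
    rw [im_mul (x : R), hq]

end Hyp

end Cfsg.Lib.Goldschmidt.Rlin
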